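import Groth.Agent.Models.H58.P1Model
import Groth.Agent.Lefpen.H717.ProjIrr
import Groth.Agent.CAlgX.K581.HomDim
import Groth.Agent.Ega3B.ProjProper
import Groth.Agent.Ega3B.ProjFrame
import Groth.Agent.Ega3B.PullTensor
import Groth.Agent.Ega2.TwistInv
import Groth.Agent.CurvesB.CurveRR
import Groth.Agent.FormalB.TwistGen
import Groth.Agent.VarietyA.EulerLES
import Groth.Agent.S0843
import Groth.Agent.S0844
import Groth.Agent.S0845

/-!
# Numbers of `O(m)` on `P^1_k`
-/

set_option autoImplicit false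
universe u

open CategoryTheory CategoryTheory.Limits AlgebraicGeometry Opposite TopologicalSpace

open Groth.Agent

namespace K318.P1Num

open Groth.Agent.VarietyA.EulerLES

variable (k : Type u) [Field k]

theorem h0_twist (m : ℕ) :
    Module.finrank k (Coh.HH (CohB1.ProjSpace 1 k) (Twist.twistProjSpace 1 k (m : ℤ)) 0) = m + 1 := by
  obtain ⟨e⟩ := Groth.Agent.S0843.result k 1 m
  rw [e.finrank_eq]
  refine (K581.HomDim.finrank_homogeneous k 1 m).trans ?_
  rw [Nat.choose_one_right]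

theorem h0_twist_neg {m : ℤ} (hm : m < 0) :
    Subsingleton (Coh.HH (CohB1.ProjSpace 1 k) (Twist.twistProjSpace 1 k m) 0) :=
  Groth.Agent.S0844.result k 1 m 0 (by omega) (by omega)

theorem h1_twist_of_lt {m : ℤ} (hm : -2 < m) :
    Subsingleton (Coh.HH (CohB1.ProjSpace 1 k) (Twist.twistProjSpace 1 k m) 1) :=
  Groth.Agent.S0844.result k 1 m 1 (by omega) (by push_cast; omega)

theorem h1_twist {m : ℤ} (n : ℕ) (hm : m = -2 - n) :
    Module.finrank k (Coh.HH (CohB1.ProjSpace 1 k) (Twist.twistProjSpace 1 k m) 1) = n + 1 := by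
  obtain ⟨e⟩ := Groth.Agent.S0845.result k 1 n
  have h1 : -(((1 : ℕ) : ℤ) + 1 + n) = m := by rw [hm]; push_cast; ring
  rw [h1] at e
  rw [e.finrank_eq]
  refine (K581.HomDim.finrank_homogeneous k 1 n).trans ?_
  rw [Nat.choose_one_right]

instance isProper_P1 : IsProper (CohB1.ProjSpace 1 k ↘ Spec (CommRingCat.of k)) :=
  Ega3B.ProjProper.isProper_toSpec 1 k

instance isNoetherian_P1 : IsNoetherian (CohB1.ProjSpace 1 k) :=
  CurvesB.CurveRR.isNoetherian_of_proper k _

theorem unitIso : Nonempty (Coh.structureModule (CohB1.ProjSpace 1 k) ≅ Twist.twistProjSpace 1 k 0) :=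
  Ega2.TwistInv.nonempty_unit_iso (CohB1.polyGrading 1 k)

theorem h0_unit : Module.finrank k
    (Coh.HH (CohB1.ProjSpace 1 k) (Coh.structureModule (CohB1.ProjSpace 1 k)) 0) = 1 := by
  obtain ⟨e⟩ := unitIso k
  rw [(equivA k e 0).finrank_eq]
  exact h0_twist k 0

theorem genus_eq : Curv2.genus k (CohB1.ProjSpace 1 k) = 0 := by
  obtain ⟨e⟩ := unitIso k
  unfold Curv2.genus
  rw [(equivA k e 1).finrank_eq]
  have := h1_twist_of_lt k (m := 0) (by omega)
  exact Module.finrank_zero_of_subsingleton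

theorem deg_twist (m : ℤ) :
    Curv2.deg k (CohB1.ProjSpace 1 k) (Twist.twistProjSpace 1 k m) 1 = m := by
  rw [CurvesB.CurveRR.deg_eq k _ (Models.H58.P1Model.topologicalKrullDim_P1 k).le, h0_unit, genus_eq]
  rcases lt_or_ge m 0 with hm | hm
  · have h0 := h0_twist_neg k hm
    rw [Module.finrank_zero_of_subsingleton (M := Coh.HH (CohB1.ProjSpace 1 k) (Twist.twistProjSpace 1 k m) 0)]
    rcases eq_or_lt_of_le (show m ≤ -1 by omega) with h1 | h1
    · subst h1
      have := h1_twist_of_lt k (m := -1) (by omega)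
      rw [Module.finrank_zero_of_subsingleton (M := Coh.HH (CohB1.ProjSpace 1 k) (Twist.twistProjSpace 1 k (-1)) 1)]
      simp
    · obtain ⟨n, hn⟩ := Int.eq_ofNat_of_zero_le (show 0 ≤ -2 - m by omega)
      rw [h1_twist k n (by omega)]
      push_cast
      omega
  · obtain ⟨n, rfl⟩ := Int.eq_ofNat_of_zero_le hm
    have := h1_twist_of_lt k (m := (n : ℤ)) (by omega)
    rw [h0_twist, Module.finrank_zero_of_subsingleton
      (M := Coh.HH (CohB1.ProjSpace 1 k) (Twist.twistProjSpace 1 k (n : ℤ)) 1)]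
    push_cast
    ring

theorem tensorPow_iso (d : ℤ) (n : ℕ) :
    Nonempty (CohB1.tensorPow (Twist.twistProjSpace 1 k d) n ≅ Twist.twistProjSpace 1 k (n * d)) :=
  Ega2.TwistInv.nonempty_tensorPow_iso (𝒜 := CohB1.polyGrading 1 k) (Ega3B.ProjFrame.coveredByOne 1 k) d n

theorem isInvertible_twist (d : ℤ) : PicF.IsInvertible (Twist.twistProjSpace 1 k d) :=
  Groth.Agent.FormalB.TwistGen.isInvertible_twistProjSpace 1 k d

end K318.P1Num
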