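import Groth.Agent.Curves.K318.PlaneCurve
import Groth.Agent.S0223
import Groth.Agent.Ega1.GenPts
import Groth.Agent.CalgA.RegBasic
import Groth.Agent.S1535
import Mathlib.AlgebraicGeometry.Geometrically.Connected
import Mathlib.AlgebraicGeometry.Geometrically.Integral

/-!
# Smooth proper schemes with `h^0(O) = 1` are geometrically integral
-/

set_option autoImplicit false
universe u

open CategoryTheory CategoryTheory.Limits AlgebraicGeometry

open Groth.Agent

namespace K318.GeomInt

variable {k : Type u} [Field k]

theorem isRegular_of_smooth {X : Scheme.{u}} (f : X ⟶ Spec (CommRingCat.of k)) [Smooth f] (x : X) :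
    IsRegularLocalRing (X.presheaf.stalk x) := by
  let o : X.Over (Spec (CommRingCat.of k)) := ⟨f⟩
  have h : Smooth (X ↘ (Spec (CommRingCat.of k))) := inferInstanceAs (Smooth f)
  exact Groth.Agent.S1535.result k X x

theorem isIntegral_of_connected {X : Scheme.{u}} (f : X ⟶ Spec (CommRingCat.of k)) [Smooth f]
    [ConnectedSpace X] : IsIntegral X := by
  have : IsLocallyNoetherian X := LocallyOfFiniteType.isLocallyNoetherian f
  refine (Groth.Agent.Ega1.GenPts.isIntegral_iff X).2 ⟨inferInstance, fun x => ?_⟩
  have := isRegular_of_smooth f x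
  exact Groth.Agent.CalgA.RegBasic.isDomain _

theorem geometricallyConnected_of_h0 (k : Type u) [Field k]
    (X : Scheme.{u}) [X.Over (Spec (CommRingCat.of k))] [IsProper (X ↘ Spec (CommRingCat.of k))]
    (h0 : Module.finrank k (Coh.HH X (Coh.structureModule X) 0) = 1) :
    GeometricallyConnected (X ↘ Spec (CommRingCat.of k)) := by
  refine ⟨fun K _ y Z fst snd hpb => ?_⟩
  obtain ⟨φ, rfl⟩ := Spec.map_surjective y
  let _ : Algebra k K := φ.hom.toAlgebra
  let _ : Z.Over (Spec (CommRingCat.of K)) := ⟨snd⟩
  have h := S0223.finrank_eq k X K Z fst hpb 0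
  exact PlaneCurve.connectedSpace_of_h0 (h.trans h0)

theorem geometricallyIntegral {X : Scheme.{u}} (f : X ⟶ Spec (CommRingCat.of k)) [Smooth f]
    [GeometricallyConnected f] : GeometricallyIntegral f := by
  constructor
  intro K _ y W fst snd hp
  have h1 : Smooth snd := MorphismProperty.of_isPullback (P := @Smooth) hp inferInstance
  have h2 : ConnectedSpace W := GeometricallyConnected.geometrically_connectedSpace _ _ _ hp
  exact isIntegral_of_connected snd

/-- A smooth proper scheme over `k` with `h^0(O) = 1` is geometrically integral. -/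
theorem geometricallyIntegral_of_h0 (k : Type u) [Field k]
    (X : Scheme.{u}) [X.Over (Spec (CommRingCat.of k))] [IsProper (X ↘ Spec (CommRingCat.of k))]
    [Smooth (X ↘ Spec (CommRingCat.of k))]
    (h0 : Module.finrank k (Coh.HH X (Coh.structureModule X) 0) = 1) :
    GeometricallyIntegral (X ↘ Spec (CommRingCat.of k)) := by
  have := geometricallyConnected_of_h0 k X h0
  exact geometricallyIntegral _

end K318.GeomInt
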