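import Groth.Agent.VarietyA.CurveFin
import Groth.Agent.CurvesB.SmoothCurveFacts
import Groth.Prelude.Def_CurvBase

/-!
# Rational points and regular points of integral curves

* `finrank_h0_of_rational`: a proper integral `k`-scheme with a `k`-rational point has `h^0(O) = 1`;
* `exists_uniformizer`: at a closed regular point of an integral one-dimensional scheme the maximal ideal of
  the local ring is generated by one nonzero element.
-/

set_option autoImplicit false
universe u

open CategoryTheory CategoryTheory.Limits AlgebraicGeometry TopologicalSpace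

open Groth.Agent

namespace K318.RatPt

/-- A proper integral scheme with a rational point has `h^0(O) = 1`. -/
theorem finrank_h0_of_rational (k : Type u) [Field k] (X : Scheme.{u})
    [X.Over (Spec (CommRingCat.of k))] [IsIntegral X] [IsProper (X ↘ (Spec (CommRingCat.of k)))] (p : X)
    (hp : Function.Surjective (Curv2.resMap k X p)) :
    Module.finrank k (Coh.HH X (Coh.structureModule X) 0) = 1 := by
  let f := X ↘ (Spec (CommRingCat.of k))
  let e := VarietyA.H0Equiv.hZeroEquiv (Coh.structureModule X)
  let _ : Algebra k Γ(X, ⊤) := (VarietyA.GlobalSections.gl f).hom.toAlgebra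
  let e' : Coh.HH X (Coh.structureModule X) 0 ≃ₗ[k] Γ(X, ⊤) :=
    { e with
      map_smul' := fun c x => VarietyA.H0Equiv.hZeroEquiv_smul (Coh.structureModule X) _ x }
  rw [e'.finrank_eq]
  have : Algebra.IsIntegral k Γ(X, ⊤) := by
    have h := isIntegral_appTop_of_universallyClosed f
    constructor
    have h2 : (VarietyA.GlobalSections.gl f).hom.IsIntegral := by
      rw [VarietyA.GlobalSections.gl, CommRingCat.hom_comp]
      exact RingHom.IsIntegral.trans _ _ (RingHom.isIntegral_of_surjective _
        (Scheme.ΓSpecIso (CommRingCat.of k)).symm.commRingCatIsoToRingEquiv.surjective) h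
    exact h2
  have hne : Nonempty X := inferInstance
  have : Nonempty (⊤ : X.Opens) := ⟨⟨Classical.arbitrary X, trivial⟩⟩
  have : IsDomain Γ(X, ⊤) := inferInstance
  have hfield : IsField Γ(X, ⊤) := isField_of_isIntegral_of_isField' (R := k) (Field.toIsField k)
  let _ : Field Γ(X, ⊤) := hfield.toField
  let ev : Γ(X, ⊤) →+* X.residueField p :=
    (X.residue p).hom.comp (X.presheaf.germ ⊤ p trivial).hom
  have hinj : Function.Injective ev := ev.injective
  have hb : Function.Bijective (algebraMap k Γ(X, ⊤)) := by
    refine ⟨(algebraMap k Γ(X, ⊤)).injective, fun a => ?_⟩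
    obtain ⟨t, ht⟩ := hp (ev a)
    refine ⟨t, hinj ?_⟩
    rw [← ht]
    rfl
  rw [← (LinearEquiv.ofBijective (Algebra.linearMap k Γ(X, ⊤)) hb).finrank_eq, Module.finrank_self]

/-- The generic point of an irreducible scheme of dimension one is not closed. -/
theorem not_isClosed_genericPoint (X : Scheme.{u}) [IrreducibleSpace X] (hdim : topologicalKrullDim X = 1) :
    ¬ IsClosed ({genericPoint X} : Set X) := by
  intro h
  have h1 : (Set.univ : Set X) = {genericPoint X} := by
    rw [← (genericPoint_spec X).def, h.closure_eq]
  have : Subsingleton X := by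
    rw [← Set.subsingleton_univ_iff, h1]
    exact Set.subsingleton_singleton
  have h2 : topologicalKrullDim X ≤ 0 := by
    have : DiscreteTopology X := inferInstance
    have hne : Nonempty X := inferInstance
    exact topologicalKrullDim_zero_of_discreteTopology X
  rw [hdim] at h2
  exact absurd h2 (by decide)

/-- A closed regular point of an integral one-dimensional scheme: the local ring is a discrete valuation
ring. -/
theorem isDVR_of_regular (X : Scheme.{u}) [IsIntegral X] (hdim : topologicalKrullDim X = 1) (p : X)
    (hp : IsClosed ({p} : Set X)) (hreg : IsRegularLocalRing (X.presheaf.stalk p)) :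
    IsDiscreteValuationRing (X.presheaf.stalk p) := by
  have h1 : p ≠ genericPoint X := by
    rintro rfl
    exact not_isClosed_genericPoint X hdim hp
  have h2 := Picfga.CurvePts.dimensionLEOne_stalk hdim.le p
  have h3 : ValuationRing (X.presheaf.stalk p) := Picfga.CurvePts.valuationRing_of_regular
  exact ((IsDiscreteValuationRing.TFAE _
    (CurvesB.SmoothCurveFacts.not_isField_stalk h1)).out 0 1).mpr h3

theorem exists_uniformizer (X : Scheme.{u}) [IsIntegral X] (hdim : topologicalKrullDim X = 1) (p : X)
    (hp : IsClosed ({p} : Set X)) (hreg : IsRegularLocalRing (X.presheaf.stalk p)) :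
    ∃ ϖ : X.presheaf.stalk p, IsLocalRing.maximalIdeal (X.presheaf.stalk p) = Ideal.span {ϖ} ∧ ϖ ≠ 0 := by
  have := isDVR_of_regular X hdim p hp hreg
  obtain ⟨ϖ, h⟩ := IsDiscreteValuationRing.exists_irreducible (X.presheaf.stalk p)
  exact ⟨ϖ, h.maximalIdeal_eq, h.ne_zero⟩

end K318.RatPt
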