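import Groth.Agent.Models.H55.PtDeg
import Groth.Agent.Models.H50.PointInter
import Groth.Agent.Curves.K318.RatPt
import Groth.Agent.Divis.EffCartier

/-!
# The degree of `O(n p)` for a regular rational point `p` of a curve
-/

set_option autoImplicit false
universe u

open CategoryTheory CategoryTheory.Limits AlgebraicGeometry TopologicalSpace
open Groth.Agent.Dix.IdealModCartier Groth.Agent.Dix.InterNum Groth.Agent.Models.H55.PtDeg

open Groth.Agent

namespace K318.PtPow

variable (k : Type u) [Field k] (Y : Scheme.{u}) [Y.Over (Spec (CommRingCat.of k))] [IsIntegral Y]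
  [IsProper (Y ↘ Spec (CommRingCat.of k))]

/-- `deg (I^n) = n deg I` for an effective Cartier ideal `I` (`n ≥ 1`). -/
theorem deg_idealMod_pow (hdim : topologicalKrullDim Y = 1) {D : Y.IdealSheafData}
    (hD : BlowUp.IsEffCartierIdeal D) (n : ℕ) :
    Curv2.deg k Y (ClSub.idealMod (D ^ (n + 1))) 1 = (n + 1) * Curv2.deg k Y (ClSub.idealMod D) 1 := by
  induction n with
  | zero => rw [zero_add, pow_one]; simp
  | succ n ih =>
    have hn := Groth.Agent.Divis.EffCartier.isEff_pow hD (n + 1)
    obtain ⟨e⟩ := idealMod_mul hn hD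
    have h1 : Curv2.deg k Y (ClSub.idealMod (D ^ (n + 1 + 1))) 1 =
        Curv2.deg k Y (CohB1.tensorMod (ClSub.idealMod (D ^ (n + 1))) (ClSub.idealMod D)) 1 := by
      rw [pow_succ]
      exact deg_congr k Y hdim e.symm
    rw [h1, deg_tensor k Y hdim (isInvertible_idealMod hn) (isInvertible_idealMod hD), ih]
    push_cast
    ring

/-- The ideal of a closed point is the kernel of the inclusion of the point. -/
theorem ker_fromSpecResidueField_eq {Y : Scheme.{u}} {p : Y} (hp : IsClosed ({p} : Set Y)) :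
    (Y.fromSpecResidueField p).ker = Scheme.IdealSheafData.vanishingIdeal ⟨{p}, hp⟩ := by
  rw [Groth.Agent.Models.H50.PointInter.ker_eq_vanishingIdeal]
  congr 1
  apply Closeds.ext
  change closure (Set.range _) = {p}
  rw [Scheme.range_fromSpecResidueField, hp.closure_eq]

variable {Y}

include k in
theorem isEff_pointIdeal (hdim : topologicalKrullDim Y = 1) {p : Y} (hp : IsClosed ({p} : Set Y))
    (hreg : IsRegularLocalRing (Y.presheaf.stalk p)) :
    BlowUp.IsEffCartierIdeal (Scheme.IdealSheafData.vanishingIdeal ⟨{p}, hp⟩) := by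
  have hcl : IsClosedImmersion (Y.fromSpecResidueField p) := isClosed_singleton_iff_isClosedImmersion.mp hp
  have hn : IsLocallyNoetherian Y :=
    LocallyOfFiniteType.isLocallyNoetherian (Y ↘ Spec (CommRingCat.of k))
  obtain ⟨ϖ, hϖ, hϖ0⟩ := RatPt.exists_uniformizer Y hdim p hp hreg
  rw [← ker_fromSpecResidueField_eq hp]
  exact isEff_ker_fromSpecResidueField p ϖ hϖ hϖ0

/-- The degree of the ideal of a regular rational point is `-1`. -/
theorem deg_pointIdeal (hdim : topologicalKrullDim Y = 1) {p : Y} (hp : IsClosed ({p} : Set Y))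
    (hreg : IsRegularLocalRing (Y.presheaf.stalk p)) (hrat : Function.Surjective (Curv2.resMap k Y p)) :
    Curv2.deg k Y (ClSub.idealMod (Scheme.IdealSheafData.vanishingIdeal ⟨{p}, hp⟩)) 1 = -1 := by
  have hD := isEff_pointIdeal k hdim hp hreg
  have hcl : IsClosedImmersion (Y.fromSpecResidueField p) := isClosed_singleton_iff_isClosedImmersion.mp hp
  obtain ⟨L, hL, ⟨e⟩⟩ := Grpsch.PicGrp.exists_inverse (isInvertible_idealMod hD)
  have hLD : ClSub.IsInverseOf L (ClSub.idealMod (Scheme.IdealSheafData.vanishingIdeal ⟨{p}, hp⟩)) :=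
    ⟨Ega2.Tens.swap L (ClSub.idealMod _) ≪≫ e⟩
  have h1 := deg_inverse k Y hdim hLD
  have h2 := deg_of_effCartier k Y hdim _ hD L hLD
  have h3 : Module.finrank k (Coh.HH Y (ClSub.quotMod (Scheme.IdealSheafData.vanishingIdeal ⟨{p}, hp⟩)) 0) = 1 := by
    rw [finrank_quotMod, ← ker_fromSpecResidueField_eq hp]
    have h4 : h0 ((Y.fromSpecResidueField p).ker.subschemeι ≫ (Y ↘ Spec (CommRingCat.of k))) =
        h0 (Y.fromSpecResidueField p ≫ (Y ↘ Spec (CommRingCat.of k))) := by
      refine h0_congr _ _ (asIso (Y.fromSpecResidueField p).toImage).symm ?_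
      rw [Iso.symm_hom, asIso_inv, IsIso.inv_comp_eq, ← Category.assoc]
      congr 1
      exact ((Y.fromSpecResidueField p).toImage_imageι).symm
    rw [h4, h0_eq_one]
    refine surjective_glo _ p fun c => ?_
    obtain ⟨a, ha⟩ := hrat (Y.residue p c)
    refine ⟨a, ?_⟩
    rw [← IsLocalRing.residue_eq_zero_iff, map_sub, sub_eq_zero]
    exact ha.symm
  rw [h3] at h2
  rw [h2] at h1
  push_cast at h1
  linarith

/-- The degree of `O(n p)` is `n` for a regular rational point `p`, `n ≥ 1`. -/
theorem deg_of_isInverseOf_pow (hdim : topologicalKrullDim Y = 1) {p : Y} (hp : IsClosed ({p} : Set Y))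
    (hreg : IsRegularLocalRing (Y.presheaf.stalk p)) (hrat : Function.Surjective (Curv2.resMap k Y p))
    {n : ℕ} (hn : 1 ≤ n) {L : Y.Modules}
    (hL : ClSub.IsInverseOf L (ClSub.idealMod ((Scheme.IdealSheafData.vanishingIdeal ⟨{p}, hp⟩) ^ n))) :
    Curv2.deg k Y L 1 = n := by
  obtain ⟨m, rfl⟩ := Nat.exists_eq_add_of_le' hn
  rw [deg_inverse k Y hdim hL, deg_idealMod_pow k Y hdim (isEff_pointIdeal k hdim hp hreg) m,
    deg_pointIdeal k hdim hp hreg hrat]
  push_cast
  ring

end K318.PtPow
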