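import Groth.Agent.Old.H24.LinearSeries
import Groth.Agent.Models.H55.PtDeg
import Groth.Agent.Curves.K318.PtPow
import Groth.Agent.Curves.K318.GeomInt
import Groth.Agent.JacVar.K531.DivEq

/-!
# Line bundles of degree one on curves of genus `≥ 1`
-/

set_option autoImplicit false
universe u

open CategoryTheory CategoryTheory.Limits AlgebraicGeometry TopologicalSpace
open Groth.Agent.Dix.IdealModCartier Groth.Agent.Dix.InterNum Groth.Agent.Models.H55.PtDeg

open Groth.Agent

namespace K318.DegOne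

variable (k : Type u) [Field k] (Y : Scheme.{u}) [Y.Over (Spec (CommRingCat.of k))]
  [IsProper (Y ↘ Spec (CommRingCat.of k))]

theorem isClosedImmersion (x : Spec (CommRingCat.of k) ⟶ Y)
    (hx : x ≫ (Y ↘ Spec (CommRingCat.of k)) = 𝟙 _) : IsClosedImmersion x := by
  have : IsClosedImmersion (x ≫ (Y ↘ Spec (CommRingCat.of k))) := by rw [hx]; infer_instance
  exact IsClosedImmersion.of_comp x (Y ↘ Spec (CommRingCat.of k))

/-- The ideal of a rational point of a smooth curve is an effective Cartier divisor. -/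
theorem isEff_ker [IsIntegral Y] [Smooth (Y ↘ Spec (CommRingCat.of k))] (hdim : topologicalKrullDim Y = 1)
    (x : Spec (CommRingCat.of k) ⟶ Y) (hx : x ≫ (Y ↘ Spec (CommRingCat.of k)) = 𝟙 _) :
    BlowUp.IsEffCartierIdeal x.ker := by
  have hcl := isClosedImmersion k Y x hx
  let p : Y := x (IsLocalRing.closedPoint k)
  have hr : Set.range x = {p} := by
    ext z
    constructor
    · rintro ⟨w, rfl⟩
      exact congrArg x (Subsingleton.elim _ _)
    · rintro rfl
      exact ⟨_, rfl⟩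
  have hp : IsClosed ({p} : Set Y) := by
    rw [← hr]
    exact x.isClosedEmbedding.isClosed_range
  have h1 : x.ker = Scheme.IdealSheafData.vanishingIdeal ⟨{p}, hp⟩ := by
    rw [Groth.Agent.Models.H50.PointInter.ker_eq_vanishingIdeal]
    congr 1
    apply Closeds.ext
    change closure (Set.range _) = {p}
    rw [hr, hp.closure_eq]
  rw [h1]
  exact PtPow.isEff_pointIdeal k hdim hp (GeomInt.isRegular_of_smooth (Y ↘ Spec (CommRingCat.of k)) p)

/-- `deg O(x) = 1` for a rational point `x`. -/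
theorem deg_eq_one [IsIntegral Y] (hdim : topologicalKrullDim Y = 1) (x : Spec (CommRingCat.of k) ⟶ Y)
    (hx : x ≫ (Y ↘ Spec (CommRingCat.of k)) = 𝟙 _) (L : Y.Modules)
    (hL : ClSub.IsInverseOf L (ClSub.idealMod x.ker)) : Curv2.deg k Y L 1 = 1 := by
  have hcl := isClosedImmersion k Y x hx
  have hD : BlowUp.IsEffCartierIdeal x.ker :=
    isEffCartierIdeal_of_isInvertible (isInvertible_of_isInverseOf hL).2
  have h2 := deg_of_effCartier k Y hdim _ hD L hL
  rw [finrank_quotMod] at h2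
  have h4 : h0 (x.ker.subschemeι ≫ (Y ↘ Spec (CommRingCat.of k))) =
      h0 (x ≫ (Y ↘ Spec (CommRingCat.of k))) := by
    refine h0_congr _ _ (asIso x.toImage).symm ?_
    rw [Iso.symm_hom, asIso_inv, IsIso.inv_comp_eq, ← Category.assoc]
    congr 1
    exact (x.toImage_imageι).symm
  rw [h4, hx, h0_eq_one] at h2
  · exact_mod_cast h2
  · intro y
    refine ⟨(Scheme.ΓSpecIso (CommRingCat.of k)).hom y, ?_⟩
    change (𝟙 (Spec (CommRingCat.of k)) : _ ⟶ _).appTop ((Scheme.ΓSpecIso (CommRingCat.of k)).inv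
      ((Scheme.ΓSpecIso (CommRingCat.of k)).hom y)) = y
    have h5 : (Scheme.ΓSpecIso (CommRingCat.of k)).inv ((Scheme.ΓSpecIso (CommRingCat.of k)).hom y) = y :=
      congr($((Scheme.ΓSpecIso (CommRingCat.of k)).hom_inv_id) y)
    rw [h5]
    simp

/-- A nonzero section of `O(x)` generates `H^0`, in genus `≥ 1`. -/
theorem exists_smul [IsIntegral Y] (hdim : topologicalKrullDim Y = 1)
    (h0 : Module.finrank k (Coh.HH Y (Coh.structureModule Y) 0) = 1)
    (hg : 1 ≤ Module.finrank k (Coh.HH Y (Coh.structureModule Y) 1))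
    (x : Spec (CommRingCat.of k) ⟶ Y)
    (hx : x ≫ (Y ↘ Spec (CommRingCat.of k)) = 𝟙 _) (L : Y.Modules)
    (hL : ClSub.IsInverseOf L (ClSub.idealMod x.ker)) {s : Γ(L, ⊤)} (hs : s ≠ 0) (t : Γ(L, ⊤)) :
    ∃ c : k, t = CurvesB.HZero.gl k Y c • s := by
  obtain ⟨hLi, -⟩ := isInvertible_of_isInverseOf hL
  let e := CurvesB.HZero.equivAdd L
  have hs' : e.symm s ≠ 0 := (map_ne_zero_iff _ e.symm.injective).2 hs
  have hn : Nontrivial (Coh.HH Y L 0) := ⟨⟨_, 0, hs'⟩⟩
  have hd := deg_eq_one k Y hdim x hx L hL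
  obtain ⟨h1, h2⟩ := Old.H24.LinearSeries.main k hdim.le h0 L hLi hn
  rw [hd] at h1 h2
  have hfin : Module.Finite k (Coh.HH Y L 0) := Old.H24.LinearSeries.finite_H k hLi 0
  have h3 : Module.finrank k (Coh.HH Y L 0) ≤ 1 := by
    by_contra h4
    have h5 := h2 (by omega) (by norm_num)
    have h6 : Curv2.genus k Y = Module.finrank k (Coh.HH Y (Coh.structureModule Y) 1) := rfl
    omega
  have h7 : Module.finrank k (Coh.HH Y L 0) = 1 := by
    have := Module.finrank_pos (R := k) (M := Coh.HH Y L 0)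
    omega
  obtain ⟨c, hc⟩ := exists_smul_eq_of_finrank_eq_one h7 hs' (e.symm t)
  refine ⟨c, ?_⟩
  have h8 := CurvesB.HZero.equivAdd_smul_over L c (e.symm s)
  rw [hc] at h8
  have h9 : e (e.symm t) = CurvesB.HZero.gl k Y c • e (e.symm s) := h8
  rwa [AddEquiv.apply_symm_apply, AddEquiv.apply_symm_apply] at h9

end K318.DegOne
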