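import Groth.Agent.Curves.K318.GenMap
import Groth.Agent.CurvesC.ProjSpaceBasic

/-!
# The function field of a curve in `P^2` is generated by the ratios of the values of the coordinates
-/

set_option autoImplicit false
universe u

open CategoryTheory CategoryTheory.Limits AlgebraicGeometry Opposite TopologicalSpace

open Groth.Agent Groth.Agent.Fdesc.LocGen

namespace K318.EmbGen

open K318.GenVal LefPen Groth.Agent.Lefpen.H705.HypIdeal Groth.Agent.Lefpen.H705.ChartPoly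
open Groth.Agent.Lefpen.H705.HypSmooth Groth.Agent.Sga5

attribute [local instance] Groth.Agent.Dix.EllPoleData.algK

variable {k : Type u} [Field k] {X : Scheme.{u}} [IsIntegral X] [X.Over (Spec (CommRingCat.of k))]

/-- The coordinate `T_i` as a section of `O(1)`. -/
noncomputable def coord (k : Type u) [Field k] (i : Fin 3) : Γ(Twist.twistProjSpace 2 k 1, ⊤) :=
  Groth.Agent.CurvesC.Gen.sec (CurvesC.ProjSpaceBasic.T 2 k i) ⊤

theorem res_coord (i : Fin 3) (U : (CohB1.ProjSpace 2 k).Opens) :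
    res (Twist.twistProjSpace 2 k 1) (le_top : U ≤ ⊤) (coord k i) =
      Groth.Agent.CurvesC.Gen.sec (CurvesC.ProjSpaceBasic.T 2 k i) U :=
  Groth.Agent.CurvesC.Gen.map_sec _ le_top

/-- The function field is generated by the ratios of the coordinates. -/
theorem subfield_eq_top (φ : X ⟶ CohB1.ProjSpace 2 k) [IsClosedImmersion φ]
    (hφ : φ ≫ CohB1.ProjSpace.toSpec 2 k = X ↘ Spec (CommRingCat.of k))
    {Q : X.Modules} (ε : (Scheme.Modules.pullback φ).obj (Twist.twistProjSpace 2 k 1) ≅ Q)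
    {V : X.Opens} [Nonempty V] {e : Γ(Q, V)} (he : IsGen e)
    (S : Subfield X.functionField) (hk : ∀ c : k, algebraMap k X.functionField c ∈ S)
    (hS : ∀ i : Fin 3, gval he (ε.hom.app ⊤ (pullTop φ (coord k i))) ∈ S) : S = ⊤ := by
  obtain ⟨j, hj⟩ : ∃ j : Fin 3, φ (genericPoint X) ∈ chart 2 k j := by
    have h1 : φ (genericPoint X) ∈ (⨆ j : Fin 3, chart 2 k j : (CohB1.ProjSpace 2 k).Opens) := by
      rw [iSup_chart]; trivial
    exact Opens.mem_iSup.1 h1
  have hne : Nonempty (φ ⁻¹ᵁ chart 2 k j) := ⟨⟨_, hj⟩⟩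
  refine GenMap.subfield_eq_top φ hφ S hk j fun l => ?_
  let D := CurvesC.ProjSpaceBasic.Dp 2 k j
  have hneD : Nonempty (φ ⁻¹ᵁ D) := hne
  let s : Fin 3 → Γ(Q, ⊤) := fun i => ε.hom.app ⊤ (pullTop φ (coord k i))
  have hres : ∀ i, res Q (le_top : φ ⁻¹ᵁ D ≤ ⊤) (s i) =
      ε.hom.app (φ ⁻¹ᵁ D) (pullSec φ (Groth.Agent.CurvesC.Gen.sec (CurvesC.ProjSpaceBasic.T 2 k i) D)) := by
    intro i
    rw [← res_coord, ← res_pullSec]
    exact (app_res ε.hom (le_top : φ ⁻¹ᵁ D ≤ ⊤) (pullTop φ (coord k i))).symm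
  have hgenT : IsGen (Groth.Agent.CurvesC.Gen.sec (CurvesC.ProjSpaceBasic.T 2 k j) D) :=
    CurvesC.ProjSpaceBasic.isGen_T 2 k j
  have hgen : IsGen (res Q (le_top : φ ⁻¹ᵁ D ≤ ⊤) (s j)) := by
    rw [hres]
    exact (hgenT.pullSec φ).app ε.hom
  have h0 : gval he (s j) ≠ 0 := by
    rw [← gval_res he (le_top : φ ⁻¹ᵁ D ≤ ⊤)]
    exact gval_gen_ne_zero he hgen
  have hrel : φ.app D (CurvesC.ProjSpaceBasic.ratio 2 k j (j.succAbove l)) •
      res Q (le_top : φ ⁻¹ᵁ D ≤ ⊤) (s j) = res Q (le_top : φ ⁻¹ᵁ D ≤ ⊤) (s (j.succAbove l)) := by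
    rw [hres, hres, ← CurvesC.ProjSpaceBasic.ratio_smul 2 k j (j.succAbove l), pullSec_smul]
    exact (Scheme.Modules.Hom.app_smul ε.hom _ _).symm
  have h1 := congrArg (gval he) hrel
  rw [gval_smul, gval_res, gval_res] at h1
  have h2 : gg (φ ⁻¹ᵁ D) (φ.app D (CurvesC.ProjSpaceBasic.ratio 2 k j (j.succAbove l))) =
      gval he (s (j.succAbove l)) / gval he (s j) := by
    rw [eq_div_iff h0]
    exact h1
  have h3 : gg (φ ⁻¹ᵁ chart 2 k j) (φ.app (chart 2 k j) (polyToChart j (MvPolynomial.X l))) =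
      gval he (s (j.succAbove l)) / gval he (s j) := by
    rw [← h2, ← WeierIdeal.rat_eq_polyToChart]
    rfl
  rw [h3]
  exact S.div_mem (hS _) (hS _)

end K318.EmbGen
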