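import Groth.Agent.Coherent.K55.KerAlg
import Groth.Agent.Coherent.K55.CxData
import Mathlib.RingTheory.Support
import Mathlib.RingTheory.LocalRing.ResidueField.Fiber

/-!
# A section which generates `H^0` on all fibres is a basis of `H^0`
-/

set_option autoImplicit false
universe u

open TensorProduct LinearMap Function K55 K55.KerAlg

namespace K318.KerGen

variable {A : Type u} [CommRing A]

/-- The functionals of a projective module take unimodular values on an element which is nonzero in all
fibres. -/
theorem eq_zero_of_smul {O : Type u} [AddCommGroup O] [Module A O] [Module.Projective A O] {t : O}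
    (h : ∀ p : PrimeSpectrum A, (1 : p.asIdeal.ResidueField) ⊗ₜ[A] t ≠ 0) {a : A} (ha : a • t = 0) : a = 0 := by
  obtain ⟨s, hs⟩ := (Module.projective_def (R := A) (P := O)).1 inferInstance
  have hs' : (s t).sum (fun x c => c • x) = t := by
    have := hs t
    rwa [Finsupp.linearCombination_apply] at this
  have h1 : Ideal.span (Set.range fun x : O => s t x) = ⊤ := by
    by_contra hne
    obtain ⟨m, hm, hle⟩ := Ideal.exists_le_maximal _ hne
    apply h ⟨m, hm.isPrime⟩
    rw [← hs', Finsupp.sum, tmul_sum]
    refine Finset.sum_eq_zero fun x _ => ?_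
    have h0 : algebraMap A (m.ResidueField) (s t x) = 0 :=
      Ideal.algebraMap_residueField_eq_zero.2 (hle (Ideal.subset_span ⟨x, rfl⟩))
    rw [tmul_smul, ← algebraMap_smul m.ResidueField, smul_tmul', smul_eq_mul, mul_one, h0, zero_tmul]
  have h2 : ∀ x : O, a * s t x = 0 := fun x => by
    have := congrArg (fun y : O => s y x) ha
    simpa using this
  have h3 : ∀ b ∈ Ideal.span (Set.range fun x : O => s t x), a * b = 0 := by
    intro b hb
    induction hb using Submodule.span_induction with
    | mem x hx =>
      obtain ⟨y, rfl⟩ := hx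
      exact h2 y
    | zero => rw [mul_zero]
    | add x y _ _ hx hy => rw [mul_add, hx, hy, add_zero]
    | smul c x _ hx => rw [smul_eq_mul, mul_left_comm, hx, mul_zero]
  have := h3 1 (h1 ▸ Submodule.mem_top)
  rwa [mul_one] at this

variable {O Q C : Type u} [AddCommGroup O] [AddCommGroup Q] [AddCommGroup C] [Module A O] [Module A Q]
  [Module A C] {u : O →ₗ[A] Q} {π : Q →ₗ[A] C}

/-- If `t` spans `ker (u_κ(p))` for all `p` then `t` spans `ker u`. -/
theorem exists_smul [Module.Finite A O] [Module.Finite A Q] [Module.Projective A Q]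
    (hex : Exact u π) (hπ : Surjective π) [Module.FinitePresentation A C] (t : LinearMap.ker u)
    (h : ∀ p : PrimeSpectrum A, ∀ z : LinearMap.ker (u.baseChange p.asIdeal.ResidueField),
      ∃ c : p.asIdeal.ResidueField, z = c • kres u _ t) (z : LinearMap.ker u) : ∃ a : A, z = a • t := by
  have h1 : ∀ p : PrimeSpectrum A, p ∈ Module.freeLocus A C := fun p => by
    refine mem_freeLocus_of_surjective_can hex hπ p ?_
    rw [can_surjective_iff_span, eq_top_iff]
    rintro z -
    obtain ⟨c, rfl⟩ := h p z
    exact Submodule.smul_mem _ _ (Submodule.subset_span ⟨t, rfl⟩)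
  have h2 : Module.Projective A C := by
    rw [← Module.freeLocus_eq_univ_iff]
    exact Set.eq_univ_iff_forall.2 h1
  have hfin : Module.Finite A (LinearMap.ker u) := finite_ker hex hπ
  let N : Submodule A (LinearMap.ker u) := Submodule.span A {t}
  have h3 : Subsingleton (LinearMap.ker u ⧸ N) := by
    rw [← Module.support_eq_empty_iff (R := A), Set.eq_empty_iff_forall_notMem]
    intro p hp
    rw [Module.mem_support_iff_nontrivial_residueField_tensorProduct] at hp
    obtain ⟨w, hw⟩ := exists_ne (0 : p.asIdeal.ResidueField ⊗[A] (LinearMap.ker u ⧸ N))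
    apply hw
    obtain ⟨y, rfl⟩ := LinearMap.lTensor_surjective p.asIdeal.ResidueField N.mkQ_surjective w
    obtain ⟨c, hc⟩ := h p (can u _ y)
    have h4 : y = c • ((1 : p.asIdeal.ResidueField) ⊗ₜ[A] t) := by
      apply (bijective_can_of_mem_freeLocus hex hπ p (h1 p)).1
      rw [hc, map_smul, can_one]
    rw [h4, smul_tmul', LinearMap.lTensor_tmul]
    have h5 : N.mkQ t = 0 := by
      rw [Submodule.mkQ_apply, Submodule.Quotient.mk_eq_zero]
      exact Submodule.mem_span_singleton_self t
    rw [h5, tmul_zero]
  have h4 : z ∈ N := by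
    rw [← Submodule.Quotient.mk_eq_zero]
    exact Subsingleton.elim _ _
  obtain ⟨a, ha⟩ := Submodule.mem_span_singleton.1 h4
  exact ⟨a, ha.symm⟩

section Transfer

variable (u)
variable {B B' : Type u} [CommRing B] [Algebra A B] [CommRing B'] [Algebra A B'] (σ : B ≃ₐ[A] B')

/-- Transport of kernel elements along `B ≃ B'`. -/
noncomputable def tr (z : LinearMap.ker (u.baseChange B)) : LinearMap.ker (u.baseChange B') :=
  ⟨σ.toLinearMap.rTensor O z.1, by
    have h := LinearMap.mem_ker.1 z.2
    rw [LinearMap.mem_ker, LinearMap.baseChange_eq_ltensor]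
    rw [LinearMap.baseChange_eq_ltensor] at h
    rw [← LinearMap.comp_apply, LinearMap.lTensor_comp_rTensor, ← LinearMap.rTensor_comp_lTensor,
      LinearMap.comp_apply, h, map_zero]⟩

theorem tr_smul (c : B) (z : LinearMap.ker (u.baseChange B)) : tr u σ (c • z) = σ c • tr u σ z := by
  apply Subtype.ext
  change σ.toLinearMap.rTensor O (c • z.1) = σ c • σ.toLinearMap.rTensor O z.1
  induction z.1 with
  | zero => simp
  | add x y hx hy => rw [smul_add, map_add, map_add, hx, hy, smul_add]
  | tmul b o =>
    rw [smul_tmul', rTensor_tmul, rTensor_tmul, smul_tmul']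
    simp

theorem tr_kres (t : LinearMap.ker u) : tr u σ (kres u B t) = kres u B' t := by
  apply Subtype.ext
  change σ.toLinearMap.rTensor O ((1 : B) ⊗ₜ[A] t.1) = (1 : B') ⊗ₜ[A] t.1
  rw [rTensor_tmul]
  simp

theorem tr_tr (z : LinearMap.ker (u.baseChange B')) : tr u σ (tr u σ.symm z) = z := by
  apply Subtype.ext
  change σ.toLinearMap.rTensor O (σ.symm.toLinearMap.rTensor O z.1) = z.1
  rw [← LinearMap.comp_apply, ← LinearMap.rTensor_comp]
  have : σ.toLinearMap ∘ₗ σ.symm.toLinearMap = LinearMap.id := by
    ext z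
    exact σ.apply_symm_apply z
  rw [this, LinearMap.rTensor_id]
  rfl

end Transfer

/-- An element of `H^0` which is a basis of `H^0` on all fibres is a basis of `H^0`. -/
theorem bijective (K : CxData A) (t : K.H 0)
    (h : ∀ p : PrimeSpectrum A, ∃ (B : Type u) (_ : CommRing B) (_ : Algebra A B)
      (_ : B ≃ₐ[A] p.asIdeal.ResidueField),
        (∀ z : K.HB 0 B, ∃ c : B, z = c • K.res 0 B t) ∧ K.res 0 B t ≠ 0) :
    Function.Bijective (fun a : A => a • t) := by
  have hO := K.projO
  constructor
  · intro a b hab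
    rw [← sub_eq_zero]
    refine eq_zero_of_smul (t := (t : K.O 0)) (fun p => ?_) ?_
    · obtain ⟨B, _, _, σ, -, hne⟩ := h p
      intro h0
      apply hne
      have h1 : K.res 0 p.asIdeal.ResidueField t = 0 := Subtype.ext h0
      rw [← tr_kres (K.u 0) σ.symm t, h1]
      exact Subtype.ext (map_zero _)
    · have h2 : a • t = b • t := hab
      have h3 := congrArg Subtype.val h2
      rw [sub_smul, sub_eq_zero]
      exact h3
  · intro z
    obtain ⟨a, ha⟩ := exists_smul (K.exact 0) (K.surj 0) t (fun p z => by
      obtain ⟨B, _, _, σ, hsp, -⟩ := h p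
      obtain ⟨c, hc⟩ := hsp (tr (K.u 0) σ.symm z)
      refine ⟨σ c, ?_⟩
      rw [← tr_kres (K.u 0) σ t, ← tr_smul]
      exact (tr_tr (K.u 0) σ z).symm.trans (congrArg _ hc)) z
    exact ⟨a, ha.symm⟩

end K318.KerGen
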