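import Groth.Agent.Coherent.K54.PushBC
import Groth.Agent.Curves.K318.KerGen
import Groth.Agent.PicF.K248.UGenBC
import Groth.Agent.Fdesc.LocGenPullback

/-!
# A section which is a basis of `H^0` on all fibres is a basis of the direct image

`isGen_push`: `f : C ⟶ S` proper, locally of finite presentation, `L` finitely presented and flat over
`S`, `s ∈ Γ(L, ⊤)` whose restriction to every fibre is a basis of `H^0`.  Then `O_S → f_* L`, `1 ↦ s` is an
isomorphism.
-/

set_option autoImplicit false
universe u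

open CategoryTheory CategoryTheory.Limits AlgebraicGeometry Scheme.Modules
open Groth.Agent Groth.Agent.Fdesc.LocGen Groth.Agent.CohqA.AffineBaseChange
open Groth.Agent.CohqA.PullbackAffine Groth.Agent.CohqA.PullbackSections

namespace K318.FibGen

variable {C S : Scheme.{u}} (f : C ⟶ S) (L : C.Modules)

theorem primeIdealOf_fromSpec {V : S.Opens} (hV : IsAffineOpen V) (p : PrimeSpectrum Γ(S, V)) :
    ∃ y : V, hV.primeIdealOf y = p := by
  have h1 : hV.fromSpec p ∈ V := by
    have := hV.range_fromSpec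
    have h2 : hV.fromSpec p ∈ Set.range hV.fromSpec := ⟨p, rfl⟩
    rw [this] at h2
    exact h2
  refine ⟨⟨_, h1⟩, ?_⟩
  apply hV.fromSpec.isOpenEmbedding.injective
  exact hV.fromSpec_primeIdealOf _

/-- The hypothesis: `s` is a basis of `H^0` on the fibre over `y`. -/
def FibBasis (s : Γ(L, ⊤)) (y : S) : Prop :=
  pullTop (f.fiberι y) s ≠ 0 ∧ ∀ t : Γ((Scheme.Modules.pullback (f.fiberι y)).obj L, ⊤),
    ∃ c : Γ(Spec (S.residueField y), ⊤), t = (f.fiberToSpecResidueField y).appTop c • pullTop (f.fiberι y) s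

theorem bijective_affine [IsProper f] [LocallyOfFinitePresentation f] (hfp : CohB1.IsFP L)
    (hfl : FlatMod.IsFlatOver f L) (s : Γ(L, ⊤)) (h : ∀ y : S, FibBasis f L s y) {V : S.Opens}
    (hV : IsAffineOpen V) :
    Function.Bijective (fun a : Γ(S, V) => a • res ((pushforward f).obj L) (le_top : V ≤ ⊤) s) := by
  obtain ⟨K, hK⟩ := K54.PushSec.exists_compData f L hfp hfl hV
  obtain ⟨t₀, ht⟩ := K54.PushSec.secData f L hV K hK
  let σ : Γ((pushforward f).obj L, V) := res ((pushforward f).obj L) (le_top : V ≤ ⊤) s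
  have hb : Function.Bijective (fun a : Γ(S, V) => a • t₀ σ) := by
    refine KerGen.bijective K (t₀ σ) fun p => ?_
    obtain ⟨y, rfl⟩ := primeIdealOf_fromSpec hV p
    have e : ⊤ ≤ (S.fromSpecResidueField y.1) ⁻¹ᵁ V := by
      intro z _
      have : (S.fromSpecResidueField y.1) z = y.1 := Scheme.fromSpecResidueField_apply y.1 z
      change (S.fromSpecResidueField y.1) z ∈ V
      rw [this]
      exact y.2
    obtain ⟨ρ, hρ⟩ := K54.PushBC.exists_residue_equiv hV y e
    let _ := ((S.fromSpecResidueField y.1).appLE V ⊤ e).hom.toAlgebra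
    obtain ⟨t₁, ht₁⟩ := ht (f.fiberι y.1) (f.fiberToSpecResidueField y.1)
      (S.fromSpecResidueField y.1) (IsPullback.of_hasPullback _ _) ⊤ (isAffineOpen_top _) e
    have hkey : t₁ (pullTop (f.fiberι y.1) s :) = K.res 0 _ (t₀ σ) := by
      rw [← ht₁ σ]
      congr 1
      have h1 := secMap_pushSquare f (S.fromSpecResidueField y.1) (f.fiberι y.1)
        (f.fiberToSpecResidueField y.1) (f.fiber_fac y.1) (pbUnit (f.fiberι y.1) L) V ⊤ e
        (preimage_le (f.fiber_fac y.1) V ⊤ e) σ
      refine Eq.trans ?_ h1.symm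
      have h2 : (secMap (f.fiberι y.1) (pbUnit (f.fiberι y.1) L) (f ⁻¹ᵁ V)
          (f.fiberToSpecResidueField y.1 ⁻¹ᵁ ⊤) (preimage_le (f.fiber_fac y.1) V ⊤ e)).hom σ =
          res _ (preimage_le (f.fiber_fac y.1) V ⊤ e) (pullSec (f.fiberι y.1) (res L le_top s)) := rfl
      refine Eq.trans ?_ h2.symm
      rw [← res_pullSec, res_res]
      exact (res_refl _ _).symm
    refine ⟨Γ(Spec (S.residueField y.1), ⊤), inferInstance, _, (AlgEquiv.ofRingEquiv (f := ρ) hρ).symm, ?_, ?_⟩
    · intro z
      obtain ⟨c, hc⟩ := (h y.1).2 (t₁.symm z)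
      refine ⟨c, ?_⟩
      rw [← hkey]
      have h3 := t₁.map_smul c (pullTop (f.fiberι y.1) s :)
      refine Eq.trans ?_ h3
      rw [← t₁.symm_apply_eq]
      exact hc
    · rw [← hkey]
      intro h4
      exact (h y.1).1 (t₁.injective (h4.trans (map_zero t₁).symm))
  have h2 : (fun a : Γ(S, V) => a • t₀ σ) = t₀ ∘ (fun a : Γ(S, V) => a • σ) := by
    funext a
    exact (t₀.map_smul a σ).symm
  rw [h2] at hb
  exact (Function.Bijective.of_comp_iff' t₀.bijective _).1 hb

/-- **A section which is a basis of `H^0` on all fibres is a basis of the direct image.** -/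
theorem isGen_push [IsProper f] [LocallyOfFinitePresentation f] (hfp : CohB1.IsFP L)
    (hfl : FlatMod.IsFlatOver f L) (s : Γ(L, ⊤)) (h : ∀ y : S, FibBasis f L s y) :
    IsGen (M := (pushforward f).obj L) (U := ⊤) s := by
  refine K248.UGenBC.isGen_of_affine (M := (pushforward f).obj L) (V := ⊤) s fun W hW hWa => ?_
  exact bijective_affine f L hfp hfl s h hWa

end K318.FibGen
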