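import Groth.Agent.Dix.EtMinE
import Groth.Agent.Dix.EtMinD
import Groth.Agent.Fdesc.LocGenPullback
import Groth.Agent.CurvesB.HZero
import Groth.Agent.CurvesB.CurveRR
import Groth.Agent.VarietyA.CurveFin
import Mathlib.AlgebraicGeometry.Morphisms.FlatRank

/-!
# Finite flat covers of curves: degree of the pullback, sections

* `finrank_stalk_push`: the generic rank of `f_* O` is the rank of the finite flat morphism `f`;
* `deg_pullback`: `deg f^* M = n deg M`;
* `pullSec_injective`, `finrank_H0_le`: `H^0(P, M) → H^0(C, f^* M)` is injective.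
-/

set_option autoImplicit false
universe u

open CategoryTheory CategoryTheory.Limits AlgebraicGeometry Opposite TopologicalSpace

open Groth.Agent

namespace K318.FinDeg

open Groth.Agent.Fdesc.LocGen

/-- The generic rank of `f_* O_C` is the rank of `f`. -/
theorem finrank_stalk_push {C P : Scheme.{u}} (f : C ⟶ P) [IsIntegral P] [IsFinite f] [Flat f] (n : ℕ)
    (h : ∀ y : P, Scheme.Hom.finrank f y = n) :
    Module.finrank (P.presheaf.stalk (genericPoint P))
      (((Scheme.Modules.pushforward f).obj (Coh.structureModule C)).presheaf.stalk (genericPoint P)) = n := by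
  have hM : Coh.IsQCoh ((Scheme.Modules.pushforward f).obj (Coh.structureModule C)) :=
    Ega3B.DevQC.isQCoh_push f (CurvesC.UnitCoh.isQCoh_unit C)
  obtain ⟨V, hV, hη, -⟩ := exists_isAffineOpen_mem_and_subset (x := genericPoint P) (U := ⊤) trivial
  let : Algebra Γ(P, V) Γ(C, f ⁻¹ᵁ V) := (f.app V).hom.toAlgebra
  have hfin : Module.Finite Γ(P, V) Γ(C, f ⁻¹ᵁ V) := IsFinite.finite_app f V hV
  have hflat : Module.Flat Γ(P, V) Γ(C, f ⁻¹ᵁ V) := by
    have h := Scheme.Hom.flat_appLE f hV (hV.preimage f) le_rfl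
    rw [Scheme.Hom.appLE_eq_app] at h
    exact h
  have hU : IsAffineOpen (f ⁻¹ᵁ V) := hV.preimage f
  have h1 : Module.rankAtStalk (R := Γ(P, V)) Γ(C, f ⁻¹ᵁ V) (hV.primeIdealOf ⟨_, hη⟩) = n := by
    have hpb : IsPullback hU.fromSpec (Spec.map (f.app V)) f hV.fromSpec := by
      refine (IsOpenImmersion.isPullback _ hU.fromSpec hV.fromSpec f ?_ ?_).flip
      · have := IsAffineOpen.SpecMap_appLE_fromSpec f hV hU le_rfl
        rw [Scheme.Hom.appLE_eq_app] at this
        exact this.symm
      · rw [hV.opensRange_fromSpec, hU.opensRange_fromSpec]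
    rw [← h (hV.fromSpec (hV.primeIdealOf ⟨_, hη⟩)), ← Scheme.Hom.finrank_of_isPullback _ _ _ _ hpb _]
    exact (Scheme.Hom.finrank_SpecMap_algebraMap Γ(P, V) Γ(C, f ⁻¹ᵁ V) _).symm
  rw [← h1]
  refine Divis.StalkMod.stalk_elim _ hM hV _ hη ?_
  intro a1 a2 a3 a4 l _ _ _
  have hflat' : Module.Flat Γ(P, V) Γ((Scheme.Modules.pushforward f).obj (Coh.structureModule C), V) := hflat
  have hfin' : Module.Finite Γ(P, V) Γ((Scheme.Modules.pushforward f).obj (Coh.structureModule C), V) := hfin
  have hb := IsLocalizedModule.isBaseChange (hV.primeIdealOf ⟨_, hη⟩).asIdeal.primeCompl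
    (P.presheaf.stalk (genericPoint P)) l
  have h2 := Module.rankAtStalk_isBaseChange hb (IsLocalRing.closedPoint (P.presheaf.stalk (genericPoint P)))
  have h3 : (IsLocalRing.closedPoint (P.presheaf.stalk (genericPoint P))).comap
      (algebraMap Γ(P, V) (P.presheaf.stalk (genericPoint P))) = hV.primeIdealOf ⟨_, hη⟩ := by
    apply PrimeSpectrum.ext
    exact IsLocalization.AtPrime.under_maximalIdeal _ _
  rw [h3] at h2
  have h4 : Module.Free (P.presheaf.stalk (genericPoint P))
      (((Scheme.Modules.pushforward f).obj (Coh.structureModule C)).presheaf.stalk (genericPoint P)) :=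
    inferInstanceAs (Module.Free P.functionField _)
  rw [Module.rankAtStalk_eq_finrank_of_free] at h2
  exact h2

section Curve

variable (k : Type u) [Field k] {C P : Scheme.{u}} [C.Over (Spec (CommRingCat.of k))]
  [P.Over (Spec (CommRingCat.of k))] (f : C ⟶ P)
  (hf : f ≫ (P ↘ Spec (CommRingCat.of k)) = C ↘ Spec (CommRingCat.of k))

include hf in
/-- `deg f^* M = n deg M` for a finite flat morphism of rank `n` of proper integral curves. -/
theorem deg_pullback [IsIntegral P] [IsProper (P ↘ Spec (CommRingCat.of k))]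
    [IsProper (C ↘ Spec (CommRingCat.of k))]
    (hP : topologicalKrullDim P = 1) (hC : topologicalKrullDim C = 1) [IsFinite f] [Flat f] {n : ℕ}
    (h : ∀ y : P, Scheme.Hom.finrank f y = n) {M : P.Modules} (hM : PicF.IsInvertible M) :
    Curv2.deg k C ((Scheme.Modules.pullback f).obj M) 1 = n * Curv2.deg k P M 1 := by
  have : IsLocallyNoetherian C := LocallyOfFiniteType.isLocallyNoetherian (C ↘ Spec (CommRingCat.of k))
  have h1 := Dix.EtMinE.curveDeg_pullback_finite k hP f hf M hM
  rw [finrank_stalk_push f n h, Dix.InterNum.curveDeg_eq k C hC, Dix.InterNum.curveDeg_eq k P hP] at h1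
  exact h1

end Curve

section Inj

variable {C P : Scheme.{u}} (f : C ⟶ P)

/-- The pullback of sections of an invertible module along a morphism injective on functions is injective. -/
theorem pullSec_injective (hinj : ∀ U : P.Opens, Function.Injective (f.app U)) {M : P.Modules}
    (hM : PicF.IsInvertible M) {U : P.Opens} (s : Γ(M, U)) (hs : pullSec f s = 0) : s = 0 := by
  have hcov : ∀ y : U, ∃ (V : P.Opens) (e : Γ(M, V)), y.1 ∈ V ∧ V ≤ U ∧ IsGen e := by
    intro y
    obtain ⟨V, e, hy, he⟩ := (isInvertible_iff M).mp hM y.1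
    exact ⟨V ⊓ U, res M inf_le_left e, ⟨hy, y.2⟩, inf_le_right, he.res _⟩
  choose V e hyV hVU he using hcov
  refine res_ext M V hVU ?_ fun y => ?_
  · intro z hz
    exact Opens.mem_iSup.2 ⟨⟨z, hz⟩, hyV ⟨z, hz⟩⟩
  · obtain ⟨a, ha⟩ := (he y).exists_eq (res M (hVU y) s)
    have h1 : pullSec f (res M (hVU y) s) = 0 := by
      rw [← res_pullSec, hs, map_zero]
    rw [ha, pullSec_smul] at h1
    have h2 : f.app (V y) a = 0 := by
      apply ((he y).pullSec f).ext
      rw [h1, zero_smul]
    have h3 : a = 0 := hinj (V y) (by rw [h2, map_zero])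
    rw [ha, h3, zero_smul, map_zero]

theorem app_injective [IsDominant f] [IsReduced P] [QuasiCompact f] (U : P.Opens) :
    Function.Injective (f.app U) := by
  have := IsSchemeTheoreticallyDominant.of_isDominant f
  exact f.app_injective U

variable (k : Type u) [Field k] [C.Over (Spec (CommRingCat.of k))]
  [P.Over (Spec (CommRingCat.of k))]
  (hf : f ≫ (P ↘ Spec (CommRingCat.of k)) = C ↘ Spec (CommRingCat.of k))

open Groth.Agent.CurvesB.HZero in
include hf in
/-- Constants pull back to constants. -/
theorem app_gl (t : k) : f.app ⊤ (gl k P t) = gl k C t := by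
  have h1 : Coh.toGlobal (f ≫ (P ↘ Spec (CommRingCat.of k))) t =
      f.appTop.hom (Coh.toGlobal (P ↘ Spec (CommRingCat.of k)) t) := by
    change ((f ≫ (P ↘ Spec (CommRingCat.of k))).appTop).hom _ = _
    rw [Scheme.Hom.comp_appTop]
    rfl
  rw [hf] at h1
  exact h1.symm

open Groth.Agent.CurvesB.HZero in
include hf in
/-- The pullback `H^0(P, M) → H^0(C, f^* M)`, linearly over `k`. -/
noncomputable def pullLin (M : P.Modules) :
    Coh.HH P M 0 →ₗ[k] Coh.HH C ((Scheme.Modules.pullback f).obj M) 0 where
  toFun x := (equivAdd _).symm (pullTop f (equivAdd M x))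
  map_add' x y := by
    rw [map_add, ← map_add (equivAdd ((Scheme.Modules.pullback f).obj M)).symm]
    exact congrArg _ (pullSec_add f (equivAdd M x) (equivAdd M y))
  map_smul' t x := by
    apply (equivAdd ((Scheme.Modules.pullback f).obj M)).injective
    rw [RingHom.id_apply, equivAdd_smul_over, AddEquiv.apply_symm_apply, equivAdd_smul_over,
      AddEquiv.apply_symm_apply]
    refine (pullSec_smul f (gl k P t) (equivAdd M x)).trans ?_
    rw [app_gl f k hf]
    rfl

include hf in
theorem finrank_H0_le [IsProper (C ↘ Spec (CommRingCat.of k))]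
    (hinj : ∀ U : P.Opens, Function.Injective (f.app U)) {M : P.Modules}
    (hM : PicF.IsInvertible M) :
    Module.finrank k (Coh.HH P M 0) ≤ Module.finrank k (Coh.HH C ((Scheme.Modules.pullback f).obj M) 0) := by
  have := VarietyA.CurveFin.finite_HH k C (isInvertible_pullback f hM) 0
  refine LinearMap.finrank_le_finrank_of_injective (f := pullLin f k hf M) ?_
  rw [injective_iff_map_eq_zero]
  intro x hx
  have h1 : pullTop f (CurvesB.HZero.equivAdd M x) = 0 :=
    (AddEquiv.map_eq_zero_iff (CurvesB.HZero.equivAdd ((Scheme.Modules.pullback f).obj M)).symm).1 hx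
  have h2 := pullSec_injective f hinj hM _ h1
  exact (AddEquiv.map_eq_zero_iff (CurvesB.HZero.equivAdd M)).1 h2

end Inj

end K318.FinDeg
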