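import Groth.Agent.Curves.K318.WeierEmb
import Groth.Agent.Curves.K318.FinDeg
import Groth.Agent.Grpsch.FinrankGen

/-!
# The map of function fields of a dominant morphism; generation of the function field of an embedded scheme

* `rho`: the map of function fields; `gval_pull`: values of pulled back sections;
* `finrank_of_surjective`: a finite flat morphism inducing a surjection of function fields has rank at most one;
* `subfield_eq_top`: the function field of a closed subscheme of `P^2` is generated by the coordinates.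
-/

set_option autoImplicit false
universe u

open CategoryTheory CategoryTheory.Limits AlgebraicGeometry Opposite TopologicalSpace

open Groth.Agent Groth.Agent.Fdesc.LocGen

namespace K318.GenMap

open K318.GenVal

section Rho

variable {C P : Scheme.{u}} [IsIntegral C] [IsIntegral P] (h : C ⟶ P) (hgen : h (genericPoint C) = genericPoint P)

/-- The map of function fields. -/
noncomputable def rho : P.functionField →+* C.functionField :=
  (P.presheaf.stalkSpecializes (specializes_of_eq hgen) ≫ h.stalkMap (genericPoint C)).hom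

include hgen in
theorem nonempty_preimage (V : P.Opens) [Nonempty V] : Nonempty (h ⁻¹ᵁ V) := by
  refine ⟨⟨genericPoint C, ?_⟩⟩
  change h (genericPoint C) ∈ V
  rw [hgen]
  exact eta_mem V

theorem rho_gg (V : P.Opens) [Nonempty V] [Nonempty (h ⁻¹ᵁ V)] (a : Γ(P, V)) :
    rho h hgen (gg V a) = gg (h ⁻¹ᵁ V) (h.app V a) := by
  have h1 : P.presheaf.stalkSpecializes (specializes_of_eq hgen) (P.presheaf.germ V (genericPoint P) (eta_mem V) a) =
      P.presheaf.germ V (h (genericPoint C)) (by rw [hgen]; exact eta_mem V) a :=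
    P.presheaf.germ_stalkSpecializes_apply (eta_mem V) (specializes_of_eq hgen) a
  have h2 := Scheme.Hom.germ_stalkMap_apply h V (genericPoint C) (by rw [hgen]; exact eta_mem V) a
  refine Eq.trans ?_ h2
  exact congrArg (h.stalkMap (genericPoint C)).hom h1

theorem gval_pull {N : P.Modules} {V : P.Opens} [Nonempty V] [Nonempty (h ⁻¹ᵁ V)] {e : Γ(N, V)} (he : IsGen e)
    {W : P.Opens} [Nonempty W] [Nonempty (h ⁻¹ᵁ W)] (n : Γ(N, W)) :
    gval (he.pullSec h) (pullSec h n) = rho h hgen (gval he n) := by
  have hne := nonempty_preimage h hgen (V ⊓ W)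
  obtain ⟨b, hb⟩ := exists_coeff he n (inf_le_left : V ⊓ W ≤ V) inf_le_right
  rw [gval_eq he inf_le_left inf_le_right hb, rho_gg h hgen]
  have h1 := congrArg (pullSec h) hb
  rw [pullSec_smul, ← res_pullSec, ← res_pullSec] at h1
  exact gval_eq (he.pullSec h) (h.preimage_mono inf_le_left) (h.preimage_mono inf_le_right) h1

/-- A finite flat morphism of integral schemes inducing a surjection of function fields has rank `≤ 1`. -/
theorem finrank_of_surjective [IsFinite h] [Flat h] (hs : Function.Surjective (rho h hgen)) (y : P) :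
    h.finrank y ≤ 1 := by
  rw [Grpsch.FinrankGen.finrank_eq_stalk h hgen y]
  letI := (h.stalkMap (genericPoint C)).hom.toAlgebra
  refine finrank_le_one (1 : C.presheaf.stalk (genericPoint C)) fun w => ?_
  obtain ⟨z, hz⟩ := hs w
  refine ⟨P.presheaf.stalkSpecializes (specializes_of_eq hgen) z, ?_⟩
  rw [Algebra.smul_def, mul_one]
  exact hz

end Rho

section Closed

open LefPen Groth.Agent.Lefpen.H705.HypIdeal Groth.Agent.Lefpen.H705.ChartPoly
open Groth.Agent.Lefpen.H705.HypSmooth Groth.Agent.Sga5

attribute [local instance] Groth.Agent.Dix.EllPoleData.algK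

variable {k : Type u} [Field k] {X : Scheme.{u}} [IsIntegral X] [X.Over (Spec (CommRingCat.of k))]

theorem subfield_eq_top (φ : X ⟶ CohB1.ProjSpace 2 k) [IsClosedImmersion φ]
    (hφ : φ ≫ CohB1.ProjSpace.toSpec 2 k = X ↘ Spec (CommRingCat.of k))
    (S : Subfield X.functionField) (hk : ∀ c : k, algebraMap k X.functionField c ∈ S)
    (j : Fin 3) [Nonempty (φ ⁻¹ᵁ chart 2 k j)]
    (hr : ∀ l : Fin 2, gg (φ ⁻¹ᵁ chart 2 k j) (φ.app (chart 2 k j) (polyToChart j (MvPolynomial.X l))) ∈ S) :
    S = ⊤ := by
  have hU : IsAffineOpen (φ ⁻¹ᵁ chart 2 k j) := (isAffineOpen_chart j).preimage φ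
  have h1 : ∀ p : MvPolynomial (Fin 2) k,
      gg (φ ⁻¹ᵁ chart 2 k j) (φ.app (chart 2 k j) (polyToChart j p)) ∈ S := by
    intro p
    induction p using MvPolynomial.induction_on with
    | C c =>
      rw [WeierEmb.gg_const φ hφ j c]
      exact hk c
    | add p q hp hq =>
      rw [map_add, map_add, map_add]
      exact S.add_mem hp hq
    | mul_X p i hp =>
      rw [map_mul, map_mul, map_mul]
      exact S.mul_mem hp (hr i)
  have h2 : ∀ a : Γ(X, φ ⁻¹ᵁ chart 2 k j), gg (φ ⁻¹ᵁ chart 2 k j) a ∈ S := by
    intro a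
    obtain ⟨b, rfl⟩ := (φ.app_surjective (chart 2 k j) (isAffineOpen_chart j) : Function.Surjective (φ.app (chart 2 k j))) a
    obtain ⟨p, rfl⟩ := (polyToChart_bijective j).2 b
    exact h1 p
  rw [eq_top_iff]
  intro z _
  have hfr := functionField_isFractionRing_of_isAffineOpen X (φ ⁻¹ᵁ chart 2 k j) hU
  obtain ⟨a, b, hb, rfl⟩ := IsFractionRing.div_surjective (A := Γ(X, φ ⁻¹ᵁ chart 2 k j)) z
  exact S.div_mem (h2 a) (h2 b)

end Closed

end K318.GenMap
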