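import Groth.Agent.CurvesB.InvEmb
import Mathlib.AlgebraicGeometry.FunctionField

/-!
# Sections of an invertible module seen in the function field

`X` is an integral scheme and `e` a generator of the module `L` over the nonempty open set `U`.

* `gval he s`: the value in the function field of a section `s` of `L` over a nonempty open set;
* `exists_mul`: if `f` is a rational function and `s` a global section such that `f s` is regular near every point
  then there is a global section with value `f` times the value of `s`.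
-/

set_option autoImplicit false
universe u

open CategoryTheory CategoryTheory.Limits AlgebraicGeometry Opposite TopologicalSpace

open Groth.Agent Groth.Agent.Fdesc.LocGen Groth.Agent.CurvesB.InvEmb

namespace K318.GenVal

variable {X : Scheme.{u}} [IsIntegral X]

theorem eta_mem (U : X.Opens) [h : Nonempty U] : genericPoint X ∈ U :=
  ((genericPoint_spec X).mem_open_set_iff U.isOpen).2 (by obtain ⟨x⟩ := h; exact ⟨x.1, trivial, x.2⟩)

instance nonempty_inf (U V : X.Opens) [Nonempty U] [Nonempty V] : Nonempty (U ⊓ V : X.Opens) :=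
  ⟨⟨genericPoint X, eta_mem U, eta_mem V⟩⟩

instance nonempty_top : Nonempty (⊤ : X.Opens) := ⟨⟨genericPoint X, trivial⟩⟩

/-- A function over a nonempty open set as a rational function. -/
noncomputable def gg (U : X.Opens) [Nonempty U] : Γ(X, U) →+* X.functionField :=
  (X.germToFunctionField U).hom

theorem gg_injective (U : X.Opens) [Nonempty U] : Function.Injective (gg U) :=
  X.germToFunctionField_injective U

theorem gg_eq_zero_iff {U : X.Opens} [Nonempty U] {a : Γ(X, U)} : gg U a = 0 ↔ a = 0 :=
  map_eq_zero_iff _ (gg_injective U)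

theorem gg_ores {U V : X.Opens} [Nonempty U] [Nonempty V] (h : V ≤ U) (a : Γ(X, U)) :
    gg V (ores h a) = gg U a :=
  X.presheaf.germ_res_apply (homOfLE h) (genericPoint X) (eta_mem V) a

section Val

variable {L : X.Modules} {U : X.Opens} [Nonempty U] {e : Γ(L, U)} (he : IsGen e)

/-- The value in the function field of a section of `L` over `W`, with respect to the generator `e` over `U`. -/
noncomputable def gval {W : X.Opens} [Nonempty W] (s : Γ(L, W)) : X.functionField :=
  gg (U ⊓ W) ((genEquiv he inf_le_left).symm (res L inf_le_right s))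

theorem gval_eq {W V : X.Opens} [Nonempty W] [Nonempty V] (hVU : V ≤ U) (hVW : V ≤ W) {s : Γ(L, W)}
    {a : Γ(X, V)} (h : res L hVW s = a • res L hVU e) : gval he s = gg V a := by
  have hV : V ≤ U ⊓ W := le_inf hVU hVW
  rw [gval, ← gg_ores hV]
  congr 1
  have h1 := genEquiv_symm_res he (inf_le_left : U ⊓ W ≤ U) hV (res L inf_le_right s)
  refine h1.symm.trans ?_
  rw [LinearEquiv.symm_apply_eq, genEquiv_apply, ← h]
  exact res_res L inf_le_right hV s

include he in
omit [IsIntegral X] [Nonempty U] in
theorem exists_coeff {W : X.Opens} (s : Γ(L, W)) {V : X.Opens} (hVU : V ≤ U) (hVW : V ≤ W) :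
    ∃ a : Γ(X, V), res L hVW s = a • res L hVU e :=
  (he.res hVU).exists_eq _

theorem gval_smul {W : X.Opens} [Nonempty W] (a : Γ(X, W)) (s : Γ(L, W)) :
    gval he (a • s) = gg W a * gval he s := by
  obtain ⟨b, hb⟩ := exists_coeff he s (inf_le_left : U ⊓ W ≤ U) inf_le_right
  rw [gval_eq he inf_le_left inf_le_right hb, ← gg_ores (inf_le_right : U ⊓ W ≤ W) a, ← map_mul]
  refine gval_eq he inf_le_left inf_le_right ?_
  rw [res_smul, hb, mul_smul]

theorem gval_add {W : X.Opens} [Nonempty W] (s t : Γ(L, W)) : gval he (s + t) = gval he s + gval he t := by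
  obtain ⟨b, hb⟩ := exists_coeff he s (inf_le_left : U ⊓ W ≤ U) inf_le_right
  obtain ⟨c, hc⟩ := exists_coeff he t (inf_le_left : U ⊓ W ≤ U) inf_le_right
  rw [gval_eq he inf_le_left inf_le_right hb, gval_eq he inf_le_left inf_le_right hc, ← map_add]
  refine gval_eq he inf_le_left inf_le_right ?_
  rw [map_add, hb, hc, add_smul]

theorem gval_zero {W : X.Opens} [Nonempty W] : gval he (0 : Γ(L, W)) = 0 := by
  rw [← zero_smul Γ(X, W) (0 : Γ(L, W)), gval_smul, map_zero, zero_mul]

theorem gval_res {W V : X.Opens} [Nonempty W] [Nonempty V] (h : V ≤ W) (s : Γ(L, W)) :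
    gval he (res L h s) = gval he s := by
  obtain ⟨b, hb⟩ := exists_coeff he s (inf_le_left : U ⊓ V ≤ U) (inf_le_right.trans h)
  rw [gval_eq he inf_le_left (inf_le_right.trans h) hb]
  refine gval_eq he inf_le_left inf_le_right ?_
  rw [res_res]
  exact hb

theorem gval_self : gval he e = 1 := by
  rw [gval_eq he le_rfl le_rfl (a := 1) (by rw [one_smul]), map_one]

theorem gval_gen_ne_zero {W : X.Opens} [Nonempty W] {g : Γ(L, W)} (hg : IsGen g) : gval he g ≠ 0 := by
  intro h0
  obtain ⟨b, hb⟩ := exists_coeff he g (inf_le_left : U ⊓ W ≤ U) inf_le_right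
  rw [gval_eq he inf_le_left inf_le_right hb, gg_eq_zero_iff] at h0
  rw [h0, zero_smul] at hb
  have h1 := (hg.res (inf_le_right : U ⊓ W ≤ W)).ext (a := 1) (b := 0) (by rw [hb, smul_zero, smul_zero])
  have h2 := congrArg (gg (U ⊓ W)) h1
  rw [map_one, map_zero] at h2
  exact one_ne_zero h2

theorem eq_zero_of_gval (hL : PicF.IsInvertible L) {W : X.Opens} [Nonempty W] (s : Γ(L, W))
    (h : gval he s = 0) : s = 0 := by
  obtain ⟨b, hb⟩ := exists_coeff he s (inf_le_left : U ⊓ W ≤ U) inf_le_right
  rw [gval_eq he inf_le_left inf_le_right hb, gg_eq_zero_iff] at h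
  rw [h, zero_smul] at hb
  exact (locEmb_of_isInvertible hL).eq_zero (inf_le_right : U ⊓ W ≤ W)
    ⟨genericPoint X, eta_mem (U ⊓ W)⟩ s hb

theorem gval_injective (hL : PicF.IsInvertible L) {W : X.Opens} [Nonempty W] {s t : Γ(L, W)}
    (h : gval he s = gval he t) : s = t := by
  have h1 : gval he (s + (-1 : Γ(X, W)) • t) = 0 := by
    rw [gval_add, gval_smul, h, map_neg, map_one]
    ring
  have h2 := eq_zero_of_gval he hL _ h1
  rw [neg_smul, one_smul, ← sub_eq_add_neg, sub_eq_zero] at h2
  exact h2

end Val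

/-- Multiplication of a global section by a rational function. -/
theorem exists_mul {L : X.Modules} (s : Γ(L, ⊤)) (f : X.functionField)
    (h : ∀ y : X, ∃ (V : X.Opens) (_ : Nonempty V) (_ : y ∈ V) (e : Γ(L, V)) (a c : Γ(X, V)), IsGen e ∧
      res L le_top s = a • e ∧ gg V c = f * gg V a) :
    ∃ σ : Γ(L, ⊤), ∀ (U : X.Opens) [Nonempty U] (e : Γ(L, U)) (he : IsGen e),
      gval he σ = f * gval he s := by
  choose V hne hy e a c he ha hc using h
  have hcov : (⊤ : X.Opens) ≤ ⨆ y, V y := fun y _ => Opens.mem_iSup.2 ⟨y, hy y⟩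
  obtain ⟨σ, hσ⟩ := res_glue L V (fun y => le_top) hcov (fun y => c y • e y) (by
    intro y z
    have hne2 : Nonempty (V y ⊓ V z : X.Opens) := nonempty_inf _ _
    obtain ⟨v, hv⟩ := ((he y).res (inf_le_left : V y ⊓ V z ≤ V y)).exists_eq
      (res L (inf_le_right : V y ⊓ V z ≤ V z) (e z))
    rw [res_smul, res_smul, hv, ← mul_smul]
    congr 1
    apply gg_injective (V y ⊓ V z)
    rw [map_mul, gg_ores, gg_ores, hc, hc, mul_assoc]
    congr 1
    have h1 : ores (inf_le_left : V y ⊓ V z ≤ V y) (a y) =
        ores (inf_le_right : V y ⊓ V z ≤ V z) (a z) * v := by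
      apply ((he y).res (inf_le_left : V y ⊓ V z ≤ V y)).ext
      rw [mul_smul, ← hv, ← res_smul, ← res_smul, ← ha, ← ha, res_res, res_res]
    rw [← gg_ores (inf_le_left : V y ⊓ V z ≤ V y) (a y), h1, map_mul, gg_ores])
  refine ⟨σ, fun U hU e' he' => ?_⟩
  have : Nonempty X := ⟨genericPoint X⟩
  let y : X := genericPoint X
  have hney := hne y
  have h1 : gval he' σ = gval he' (c y • e y) := by
    rw [← hσ y, gval_res]
  have h2 : gval he' s = gval he' (a y • e y) := by
    rw [← ha y, gval_res]
  rw [h1, h2, gval_smul, gval_smul, hc, mul_assoc]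

end K318.GenVal
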