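import Groth.Agent.Lefpen.H705.HypIdeal
import Groth.Agent.Picfga.ZeroDiv
import Groth.Agent.FormalB.TwistGen
import Groth.Agent.Fga.ZeroClass
import Groth.Agent.Ega2.TwistInv
import Groth.Agent.Ega2.TensMon
import Groth.Agent.Ega3B.ProjFrame

/-!
# A hypersurface `V_+(G)` as a divisor: `O(d) ⊗ I ≅ O`, `I ≅ O(-d)`

* `exists_gen_smul`: over the chart `D_+(T_j)` the section `G` of `O(d)` is `G(T / T_j) • T_j^d`;
* `isZeroIdeal_globalOf`: the ideal of the hypersurface is the zero ideal of the section `G` of `O(d)`;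
* `isEff_hypIdeal`: for `G ≠ 0` it is an effective Cartier ideal;
* `idealMod_iso`: the ideal module is isomorphic to `O(-d)`.
-/

set_option autoImplicit false
universe u

open CategoryTheory CategoryTheory.Limits AlgebraicGeometry Opposite TopologicalSpace

open Groth.Agent

namespace K318.HypDiv

open LefPen Groth.Agent.Lefpen.H705.HypIdeal Groth.Agent.Fdesc.LocGen Groth.Agent.Picfga.ZeroDef
open Groth.Agent.FormalB

variable {r : ℕ} {k : Type u} [Field k] {d : ℕ}

theorem exists_gen_smul_aux (G : Form r k d) (j : Fin (r + 1)) (e' : ℤ) (h : ((1 : ℕ) : ℤ) * (d : ℤ) = e')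
    (s : Γ(Twist.twistProjSpace r k e', ⊤))
    (hs : ∀ x : (⊤ : (CohB1.ProjSpace r k).Opens),
      ((s : Twist.sectN (𝒜 := CohB1.polyGrading r k) e' (op ⊤)).1 x).1 =
        Localization.mk G.1 (1 : x.1.asHomogeneousIdeal.toIdeal.primeCompl)) :
    ∃ g : Γ(Twist.twistProjSpace r k e', chart r k j), IsGen g ∧
      res _ (le_top : chart r k j ≤ ⊤) s = dehom G j • g := by
  subst h
  refine ⟨TwistGen.gen (X_mem r k j) (d : ℤ) _ le_rfl, TwistGen.isGen_gen _ _ _ le_rfl, ?_⟩
  apply Subtype.ext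
  funext x
  apply Subtype.ext
  refine (hs ⟨x.1, trivial⟩).trans ?_
  refine Eq.trans ?_ (Twist.coe_smul_val (𝒜 := CohB1.polyGrading r k) _ x.1
    ((dehom G j).1 x) _).symm
  rw [dehom_val]
  have hx : (MvPolynomial.X j : MvPolynomial (Fin (r + 1)) k) ∉ x.1.asHomogeneousIdeal := x.2
  change _ = Localization.mk G.1 _ * TwistGen.pw (MvPolynomial.X j) (d : ℤ) x.1 hx
  rw [TwistGen.pw, Localization.mk_mul, Localization.mk_eq_mk_iff, Localization.r_iff_exists]
  refine ⟨1, ?_⟩
  simp only [OneMemClass.coe_one, one_mul, Submonoid.coe_mul]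
  have h1 : (-(d : ℤ)).toNat = 0 := Int.toNat_of_nonpos (by omega)
  have h2 : ((d : ℤ)).toNat = d := Int.toNat_natCast d
  rw [h1, h2]
  ring

/-- The section `G` of `O(d)`. -/
noncomputable def sec (G : Form r k d) : Γ(Twist.twistProjSpace r k (d : ℤ), ⊤) :=
  Twist.globalOf (CohB1.polyGrading r k) G

theorem exists_gen_smul (G : Form r k d) (j : Fin (r + 1)) :
    ∃ g : Γ(Twist.twistProjSpace r k (d : ℤ), chart r k j), IsGen g ∧
      res _ (le_top : chart r k j ≤ ⊤) (sec G) = dehom G j • g :=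
  exists_gen_smul_aux G j (d : ℤ) (by simp) (sec G) fun x => rfl

/-- The ideal of the hypersurface is the zero ideal of the section `G` of `O(d)`. -/
theorem isZeroIdeal_sec (G : Form r k d) :
    IsZeroIdeal (Twist.twistProjSpace r k (d : ℤ)) (sec G) (hypIdeal G) := by
  apply Groth.Agent.Picfga.ZeroDiv.isZeroIdeal_of_local
  intro y
  have hy : y ∈ ⨆ j : Fin (r + 1), chart r k j := by rw [iSup_chart]; trivial
  obtain ⟨j, hj⟩ := Opens.mem_iSup.1 hy
  obtain ⟨g, hg, hs⟩ := exists_gen_smul G j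
  refine ⟨⟨chart r k j, isAffineOpen_chart j⟩, g, dehom G j, hj, hg, hs, ?_⟩
  rw [hypIdeal_ideal_of_le G j ⟨chart r k j, isAffineOpen_chart j⟩ le_rfl, ores_refl]

theorem dehom_mem_nonZeroDivisors (G : Form r k d) (hG : G ≠ 0) (j : Fin (r + 1)) :
    dehom G j ∈ nonZeroDivisors Γ(CohB1.ProjSpace r k, chart r k j) := by
  rw [mem_nonZeroDivisors_iff_right]
  intro a ha
  refine section_ext _ _ fun p => ?_
  have h1 : (a.1 p).val * ((dehom G j).1 p).val = 0 := by
    rw [← HomogeneousLocalization.val_mul]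
    have h2 := congrArg (fun s : Γ(CohB1.ProjSpace r k, chart r k j) => (s.1 p).val) ha
    exact h2.trans (HomogeneousLocalization.val_zero
      (x := (ProjectiveSpectrum.asHomogeneousIdeal p.1).toIdeal.primeCompl)
      (𝒜 := CohB1.polyGrading r k))
  have h3 : IsDomain (Localization (ProjectiveSpectrum.asHomogeneousIdeal p.1).toIdeal.primeCompl) :=
    IsLocalization.isDomain_localization (Ideal.primeCompl_le_nonZeroDivisors _)
  have h4 : ((dehom G j).1 p).val ≠ 0 := by
    rw [dehom_val]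
    intro h5
    apply hG
    apply Subtype.ext
    rw [← Localization.mk_zero ⟨MvPolynomial.X j ^ d, pow_mem_primeCompl j p d⟩,
      Localization.mk_eq_mk_iff, Localization.r_iff_exists] at h5
    obtain ⟨c, hc⟩ := h5
    simp only [mul_zero, mul_eq_zero] at hc
    rcases hc with hc | hc
    · exact absurd (hc ▸ c.2) (fun h => h (Ideal.zero_mem _))
    · rcases hc with hc | hc
      · exact absurd hc (pow_ne_zero _ (MvPolynomial.X_ne_zero _))
      · exact hc
  have h6 := (mul_eq_zero.1 h1).resolve_right h4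
  rw [h6]
  exact (HomogeneousLocalization.val_zero (x := (ProjectiveSpectrum.asHomogeneousIdeal p.1).toIdeal.primeCompl)
      (𝒜 := CohB1.polyGrading r k)).symm

/-- The ideal of a hypersurface is effective Cartier. -/
theorem isEff_hypIdeal (G : Form r k d) (hG : G ≠ 0) : BlowUp.IsEffCartierIdeal (hypIdeal G) := by
  intro y
  have hy : y ∈ ⨆ j : Fin (r + 1), chart r k j := by rw [iSup_chart]; trivial
  obtain ⟨j, hj⟩ := Opens.mem_iSup.1 hy
  refine ⟨⟨chart r k j, isAffineOpen_chart j⟩, hj, dehom G j, dehom_mem_nonZeroDivisors G hG j, ?_⟩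
  rw [hypIdeal_ideal_of_le G j ⟨chart r k j, isAffineOpen_chart j⟩ le_rfl, ores_refl]

theorem isInverseOf (G : Form r k d) (hG : G ≠ 0) :
    ClSub.IsInverseOf (Twist.twistProjSpace r k (d : ℤ)) (ClSub.idealMod (hypIdeal G)) :=
  Groth.Agent.Fga.ZeroClass.nonempty_iso (TwistGen.isInvertible_twistProjSpace r k _) (sec G)
    (isZeroIdeal_sec G) (isEff_hypIdeal G hG)

/-- `O(m) ⊗ I ≅ O(m - d)`. -/
theorem tensor_ideal_iso (G : Form r k d) (hG : G ≠ 0) (m e : ℤ) (h : e + d = m) :
    Nonempty (CohB1.tensorMod (Twist.twistProjSpace r k m) (ClSub.idealMod (hypIdeal G)) ≅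
      Twist.twistProjSpace r k e) := by
  have hc := Groth.Agent.Ega3B.ProjFrame.coveredByOne r k
  have h1 := Ega2.TwistInv.isIso_mulHom hc h
  let e1 : CohB1.tensorMod (Twist.twistProjSpace r k e) (Twist.twistProjSpace r k (d : ℤ)) ≅
      Twist.twistProjSpace r k m := @asIso _ _ _ _ (Ega2.TwistMul.mulHom (CohB1.polyGrading r k) h) h1
  obtain ⟨e2⟩ := isInverseOf G hG
  exact ⟨Ega2.Tens.mapTIso e1.symm (Iso.refl _) ≪≫ Ega2.Tens.assoc _ _ _ ≪≫
    Ega2.Tens.mapTIso (Iso.refl _) e2 ≪≫ Ega2.Tens.runit _⟩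

end K318.HypDiv
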