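import Groth.Agent.Lefpen.H705.HypSmooth
import Groth.Agent.CalgB.EtaleNbhd

/-!
# Smooth projective hypersurfaces: the converse Jacobian criterion

* `chart_smooth`: the chart rings of a smooth hypersurface are smooth.
* `one_mem_of_smooth_quotient`: if `k[x]/(f)`, `f ≠ 0`, is smooth over the field `k` then `1 ∈ (f, ∂f/∂x_i)`.
-/

set_option autoImplicit false
universe u

open CategoryTheory AlgebraicGeometry Limits TopologicalSpace Opposite

namespace K318.HypSmooth

open LefPen Groth.Agent.Lefpen.H705.HypIdeal Groth.Agent.Lefpen.H705.ChartPoly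
open Groth.Agent.Lefpen.H705.SecIdeal Groth.Agent.Lefpen.H705.PointCoord IsLocalRing
open Groth.Agent.Sga5 Groth.Agent.Fdesc.LocGen Groth.Agent.Lefpen.H705.HypSmooth

variable {r : ℕ} {k : Type u} [Field k] {d : ℕ}

/-- The chart rings of a smooth projective hypersurface are smooth. -/
theorem chart_smooth (G : Form r k d) (h : Smooth ((hypIdeal G).subschemeι ≫ CohB1.ProjSpace.toSpec r k))
    (j : Fin (r + 1)) : Algebra.Smooth k (MvPolynomial (Fin r) k ⧸ Ideal.span {ProjChart.dehom r k j G.1}) := by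
  have h1 : Smooth ((hypIdeal G).subschemeCover.f (chartAff j) ≫
      ((hypIdeal G).subschemeι ≫ CohB1.ProjSpace.toSpec r k)) := by
    have : IsOpenImmersion ((hypIdeal G).subschemeCover.f (chartAff j)) :=
      (hypIdeal G).subschemeCover.map_prop (chartAff j)
    infer_instance
  rw [cover_eq] at h1
  have h2 := (HasRingHomProperty.Spec_iff (P := @Smooth)).mp h1
  let e : (MvPolynomial (Fin r) k ⧸ Ideal.span {ProjChart.dehom r k j G.1}) ≃+*
      (Γ(CohB1.ProjSpace r k, (chartAff (r := r) (k := k) j).1) ⧸ (hypIdeal G).ideal (chartAff j)) :=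
    Ideal.quotientEquiv _ _ (RingEquiv.ofBijective (polyToChart j) (polyToChart_bijective j)) (by
      rw [ideal_chartAff]; rfl)
  have h4 := RingHom.Smooth.respectsIso.1 _ e.symm h2
  rw [← RingHom.smooth_algebraMap]
  refine (congrArg RingHom.Smooth ?_).mp h4
  apply RingHom.ext
  intro c
  change e.symm (Ideal.Quotient.mk _ (polyToChart j (MvPolynomial.C c))) = _
  rw [RingEquiv.symm_apply_eq]
  rfl

/-- The Jacobian criterion for a smooth affine hypersurface. -/
theorem one_mem_of_smooth_quotient {n : ℕ} (f : MvPolynomial (Fin n) k) (hf : f ≠ 0)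
    (h : Algebra.Smooth k (MvPolynomial (Fin n) k ⧸ Ideal.span {f})) :
    (1 : MvPolynomial (Fin n) k) ∈ Ideal.span ({f} ∪ Set.range fun i => MvPolynomial.pderiv i f) := by
  have hfs : Algebra.FormallySmooth k (MvPolynomial (Fin n) k ⧸ Ideal.span {f}) := h.1
  obtain ⟨t, ht, hg⟩ := Groth.Agent.CalgB.EtaleNbhd.exists_retraction
    (Ideal.Quotient.mkₐ k (Ideal.span {f})) (Ideal.Quotient.mkₐ_surjective k _)
  have hker : RingHom.ker (Ideal.Quotient.mkₐ k (Ideal.span {f})).toRingHom = Ideal.span {f} :=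
    Ideal.mk_ker
  rw [hker] at hg
  have h1 := hg f (Ideal.Quotient.eq_zero_iff_mem.mpr (Ideal.mem_span_singleton_self f))
  rw [Ideal.span_singleton_pow, Ideal.mem_span_singleton] at h1
  obtain ⟨c, hc⟩ := h1
  choose s hs using fun i => Ideal.mem_span_singleton.mp (Ideal.Quotient.eq_zero_iff_mem.mp (ht i))
  have h2 : f * (1 - ∑ i, MvPolynomial.pderiv i f * s i - f * c) = 0 := by
    have : ∑ i, MvPolynomial.pderiv i f * t i = f * ∑ i, MvPolynomial.pderiv i f * s i := by
      rw [Finset.mul_sum]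
      refine Finset.sum_congr rfl fun i _ => ?_
      rw [hs i]; ring
    rw [this] at hc
    linear_combination hc
  have h3 := (mul_eq_zero.mp h2).resolve_left hf
  have h4 : (1 : MvPolynomial (Fin n) k) = ∑ i, MvPolynomial.pderiv i f * s i + f * c := by
    linear_combination h3
  rw [h4]
  refine Ideal.add_mem _ (Ideal.sum_mem _ fun i _ => Ideal.mul_mem_right _ _ (Ideal.subset_span (Or.inr ⟨i, rfl⟩)))
    (Ideal.mul_mem_right _ _ (Ideal.subset_span (Or.inl rfl)))

end K318.HypSmooth
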