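import Groth.Agent.Curves.K318.HypDiv
import Groth.Agent.VarietyB.RestrSeq
import Groth.Agent.CohqB.PullTwist471
import Groth.Agent.VarietyA.EulerLES
import Groth.Agent.CurvesC.CurveNum
import Groth.Agent.CurvesA.HHMap
import Groth.Agent.CurvesB.HZero
import Groth.Agent.CurvesC.PointScheme
import Groth.Agent.CAlgX.K581.HomDim
import Groth.Agent.S0843
import Groth.Agent.S0844
import Groth.Agent.S0845

/-!
# Cohomology of `O_C(m)` on a plane curve `C = V_+(G) ⊆ P^2_k`
-/

set_option autoImplicit false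
universe u

open CategoryTheory CategoryTheory.Limits AlgebraicGeometry Opposite TopologicalSpace

open Groth.Agent

namespace K318.PlaneCurve

open LefPen Groth.Agent.VarietyA.EulerLES

section Twists

variable (k : Type u) [Field k]

theorem h0_twist (m : ℕ) :
    Module.finrank k (Coh.HH (CohB1.ProjSpace 2 k) (Twist.twistProjSpace 2 k (m : ℤ)) 0) = Nat.choose (m + 2) 2 := by
  obtain ⟨e⟩ := Groth.Agent.S0843.result k 2 m
  rw [e.finrank_eq]
  exact K581.HomDim.finrank_homogeneous k 2 m

theorem h0_twist_neg {m : ℤ} (hm : m < 0) :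
    Subsingleton (Coh.HH (CohB1.ProjSpace 2 k) (Twist.twistProjSpace 2 k m) 0) :=
  Groth.Agent.S0844.result k 2 m 0 (by omega) (by omega)

theorem h1_twist (m : ℤ) :
    Subsingleton (Coh.HH (CohB1.ProjSpace 2 k) (Twist.twistProjSpace 2 k m) 1) :=
  Groth.Agent.S0844.result k 2 m 1 (by omega) (by omega)

theorem h2_twist_of_lt {m : ℤ} (hm : -3 < m) :
    Subsingleton (Coh.HH (CohB1.ProjSpace 2 k) (Twist.twistProjSpace 2 k m) 2) :=
  Groth.Agent.S0844.result k 2 m 2 (by omega) (by push_cast; omega)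

theorem h2_twist {m : ℤ} (n : ℕ) (hm : m = -3 - n) :
    Module.finrank k (Coh.HH (CohB1.ProjSpace 2 k) (Twist.twistProjSpace 2 k m) 2) = Nat.choose (n + 2) 2 := by
  obtain ⟨e⟩ := Groth.Agent.S0845.result k 2 n
  have h1 : -(((2 : ℕ) : ℤ) + 1 + n) = m := by rw [hm]; push_cast; ring
  rw [h1] at e
  rw [e.finrank_eq]
  exact K581.HomDim.finrank_homogeneous k 2 n

theorem finite_homog (n d : ℕ) : Module.Finite k ↥(MvPolynomial.homogeneousSubmodule (Fin (n + 1)) k d) :=
  Module.finite_of_finrank_pos (by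
    rw [K581.HomDim.finrank_homogeneous k n d]
    exact Nat.choose_pos (by omega))

theorem finite_twist_zero (m : ℤ) :
    Module.Finite k (Coh.HH (CohB1.ProjSpace 2 k) (Twist.twistProjSpace 2 k m) 0) := by
  by_cases h0 : 0 ≤ m
  · obtain ⟨l, rfl⟩ := Int.eq_ofNat_of_zero_le h0
    obtain ⟨e⟩ := Groth.Agent.S0843.result k 2 l
    have := finite_homog k 2 l
    exact Module.Finite.equiv e.symm
  · have := h0_twist_neg k (m := m) (by omega)
    infer_instance

end Twists

section Seq

variable {k : Type u} [Field k] {d : ℕ} (G : Form 2 k d)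

/-- `ι_* O_C(m)`. -/
noncomputable abbrev pushTw (m : ℤ) : (CohB1.ProjSpace 2 k).Modules :=
  (Scheme.Modules.pushforward (hypIdeal G).subschemeι).obj
    ((Scheme.Modules.pullback (hypIdeal G).subschemeι).obj (Twist.twistProjSpace 2 k m))

theorem hasBases (m : ℤ) : Groth.Agent.VarietyB.TensCoh.HasBases (Twist.twistProjSpace 2 k m) :=
  Groth.Agent.CohqB.PullTwist471.hasBases_of_isInvertible
    (Groth.Agent.FormalB.TwistGen.isInvertible_twistProjSpace 2 k m)

variable (hG : G ≠ 0)

include hG in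
theorem finrank_push_zero {m e : ℤ} (h : e + d = m) :
    Module.finrank k (Coh.HH (CohB1.ProjSpace 2 k) (pushTw G m) 0) +
      Module.finrank k (Coh.HH (CohB1.ProjSpace 2 k) (Twist.twistProjSpace 2 k e) 0) =
      Module.finrank k (Coh.HH (CohB1.ProjSpace 2 k) (Twist.twistProjSpace 2 k m) 0) := by
  obtain ⟨φ⟩ := HypDiv.tensor_ideal_iso G hG m e h
  have hS := Groth.Agent.VarietyB.RestrSeq.restrSeq_shortExact (hasBases (k := k) m) (hypIdeal G)
  have f1 := finite_twist_zero k m
  have f2 := h1_twist k e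
  have e0 := (equivA k φ 0).finrank_eq
  have e1 := equivA k φ 1
  have hinj := injectiveA₀ k _ hS
  have hex := exactA₂ k _ hS 0
  have hex3 := exactA₃ k _ hS 0 1 rfl
  have hsub : Subsingleton (Coh.HH (CohB1.ProjSpace 2 k)
      (Groth.Agent.VarietyB.RestrSeq.restrSeq (hasBases (k := k) m) (hypIdeal G)).X₁ 1) :=
    e1.toEquiv.subsingleton
  have hsurj : Function.Surjective (mapA k (Groth.Agent.VarietyB.RestrSeq.restrSeq
      (hasBases (k := k) m) (hypIdeal G)).g 0) := fun x => (hex3 x).1 (Subsingleton.elim _ _)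
  have hfin : Module.Finite k (Coh.HH (CohB1.ProjSpace 2 k)
      (Groth.Agent.VarietyB.RestrSeq.restrSeq (hasBases (k := k) m) (hypIdeal G)).X₂ 0) := f1
  have h1 := (mapA k (Groth.Agent.VarietyB.RestrSeq.restrSeq
      (hasBases (k := k) m) (hypIdeal G)).g 0).finrank_range_add_finrank_ker
  rw [LinearMap.range_eq_top.2 hsurj, finrank_top, hex.linearMap_ker_eq,
    LinearMap.finrank_range_of_inj hinj] at h1
  rw [← e0]
  exact h1

include hG in
theorem finrank_push_one {m e : ℤ} (h : e + d = m) (hm : -3 < m) :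
    Module.finrank k (Coh.HH (CohB1.ProjSpace 2 k) (pushTw G m) 1) =
      Module.finrank k (Coh.HH (CohB1.ProjSpace 2 k) (Twist.twistProjSpace 2 k e) 2) := by
  obtain ⟨φ⟩ := HypDiv.tensor_ideal_iso G hG m e h
  have hS := Groth.Agent.VarietyB.RestrSeq.restrSeq_shortExact (hasBases (k := k) m) (hypIdeal G)
  have f1 := h1_twist k m
  have f2 := h2_twist_of_lt k hm
  have e2 := (equivA k φ 2).finrank_eq
  have hex1 := exactA₁ k _ hS 1 2 rfl
  have hex2 := exactA₂ k _ hS 1
  have hex3 := exactA₃ k _ hS 1 2 rfl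
  rw [← e2]
  refine LinearEquiv.finrank_eq (LinearEquiv.ofBijective (deltaA k _ hS 1 2 rfl) ⟨?_, ?_⟩)
  · rw [injective_iff_map_eq_zero]
    intro x hx
    obtain ⟨y, hy⟩ := (hex3 x).1 hx
    rw [← hy, show y = 0 from @Subsingleton.elim _ f1 _ _, map_zero]
  · intro y
    exact (hex1 y).1 (@Subsingleton.elim _ f2 _ _)

variable [inst : ((hypIdeal G).subscheme).Over (Spec (CommRingCat.of k))]
    (hinst : (hypIdeal G).subscheme ↘ (Spec (CommRingCat.of k)) = (hypIdeal G).subschemeι ≫ CohB1.ProjSpace.toSpec 2 k)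

include hinst in
theorem finrank_push (M : (hypIdeal G).subscheme.Modules) (n : ℕ) :
    Module.finrank k (Coh.HH (hypIdeal G).subscheme M n) =
      Module.finrank k (Coh.HH (CohB1.ProjSpace 2 k)
        ((Scheme.Modules.pushforward (hypIdeal G).subschemeι).obj M) n) :=
  (Groth.Agent.CurvesC.CurveNum.hhPushₗ k (hypIdeal G).subschemeι hinst.symm M n).finrank_eq

/-- The module `O_C(m)`. -/
noncomputable abbrev tw (m : ℤ) : (hypIdeal G).subscheme.Modules :=
  (Scheme.Modules.pullback (hypIdeal G).subschemeι).obj (Twist.twistProjSpace 2 k m)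

include hinst hG in
/-- `h^0(O_C(m)) = h^0(O(m)) - h^0(O(m - d))`. -/
theorem h0_tw {m e : ℤ} (h : e + d = m) :
    Module.finrank k (Coh.HH (hypIdeal G).subscheme (tw G m) 0) +
      Module.finrank k (Coh.HH (CohB1.ProjSpace 2 k) (Twist.twistProjSpace 2 k e) 0) =
      Module.finrank k (Coh.HH (CohB1.ProjSpace 2 k) (Twist.twistProjSpace 2 k m) 0) := by
  rw [finrank_push G hinst]
  exact finrank_push_zero G hG h

include hinst hG in
/-- `h^1(O_C(m)) = h^2(O(m - d))` for `m > -3`. -/
theorem h1_tw {m e : ℤ} (h : e + d = m) (hm : -3 < m) :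
    Module.finrank k (Coh.HH (hypIdeal G).subscheme (tw G m) 1) =
      Module.finrank k (Coh.HH (CohB1.ProjSpace 2 k) (Twist.twistProjSpace 2 k e) 2) := by
  rw [finrank_push G hinst]
  exact finrank_push_one G hG h hm

/-- `O_C(0) ≅ O_C`. -/
theorem nonempty_tw_zero : Nonempty (tw G 0 ≅ Coh.structureModule (hypIdeal G).subscheme) := by
  obtain ⟨e⟩ := Ega2.TwistInv.nonempty_unit_iso (CohB1.polyGrading 2 k)
  exact ⟨(Scheme.Modules.pullback (hypIdeal G).subschemeι).mapIso e.symm ≪≫
    CurvesA.HHMap.pullbackUnit (hypIdeal G).subschemeι⟩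

include hinst hG in
theorem h0_unit (hd : 1 ≤ d) :
    Module.finrank k (Coh.HH (hypIdeal G).subscheme (Coh.structureModule (hypIdeal G).subscheme) 0) = 1 := by
  obtain ⟨e⟩ := nonempty_tw_zero G
  have h1 := h0_tw G hG hinst (m := 0) (e := -d) (by ring)
  have h2 := h0_twist_neg k (m := -(d : ℤ)) (by omega)
  have h3 := h0_twist k 0
  rw [Module.finrank_zero_of_subsingleton (M := Coh.HH (CohB1.ProjSpace 2 k) (Twist.twistProjSpace 2 k (-(d : ℤ))) 0),
    add_zero] at h1
  rw [← (equivA k e 0).finrank_eq, h1]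
  exact h3

include hinst hG in
theorem h1_unit (hd : 1 ≤ d) :
    Module.finrank k (Coh.HH (hypIdeal G).subscheme (Coh.structureModule (hypIdeal G).subscheme) 1) =
      (d - 1) * (d - 2) / 2 := by
  obtain ⟨e⟩ := nonempty_tw_zero G
  have h1 := h1_tw G hG hinst (m := 0) (e := -d) (by ring) (by omega)
  rw [← (equivA k e 1).finrank_eq, h1]
  rcases Nat.lt_or_ge d 3 with hd3 | hd3
  · have := h2_twist_of_lt k (m := -(d : ℤ)) (by omega)
    rw [Module.finrank_zero_of_subsingleton]
    interval_cases d <;> rfl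
  · obtain ⟨n, rfl⟩ := Nat.exists_eq_add_of_le hd3
    rw [h2_twist k n (by push_cast; ring), Nat.choose_two_right]
    congr 2 <;> omega

end Seq

open Groth.Agent.CurvesB.HZero in
/-- A scheme over a field with `h^0(O) = 1` is connected. -/
theorem connectedSpace_of_h0 {k : Type u} [Field k] {X : Scheme.{u}} [X.Over (Spec (CommRingCat.of k))]
    (h0 : Module.finrank k (Coh.HH X (Coh.structureModule X) 0) = 1) : ConnectedSpace X := by
  have hnt : Nontrivial Γ(X, ⊤) := nontrivial_of_h0 k h0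
  have hne : Nonempty X := by
    by_contra hE
    rw [not_nonempty_iff] at hE
    have : Subsingleton Γ(X, ⊤) := inferInstance
    exact not_subsingleton Γ(X, ⊤) this
  refine CurvesC.PointScheme.connectedSpace_of_idem fun e he => ?_
  obtain ⟨c, rfl⟩ := exists_const k h0 e
  have h1 : gl k X (c * c) = gl k X c := by rw [map_mul]; exact he
  have h2 : c * c = c := (gl k X).injective h1
  by_cases h : c = 0
  · exact Or.inl (by rw [h, map_zero])
  · exact Or.inr (by rw [mul_right_cancel₀ h (h2.trans (one_mul c).symm), map_one])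

end K318.PlaneCurve
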