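import Groth.Agent.Curves.K318.GenVal
import Groth.Agent.Dix.EllPoleData
import Groth.Agent.Picfga.ZeroDiv
import Groth.Agent.CurvesB.HZero

/-!
# Functions with a pole at a rational point as sections of `O(n x)`
-/

set_option autoImplicit false
universe u

open CategoryTheory CategoryTheory.Limits AlgebraicGeometry Opposite TopologicalSpace

open Groth.Agent Groth.Agent.Fdesc.LocGen Groth.Agent.CurvesB.InvEmb

namespace K318.PoleSec

open K318.GenVal Groth.Agent.Dix.EllPoleData Groth.Agent.Picfga.RegLocus Groth.Agent.Picfga.ZeroDef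

attribute [local instance] algK

variable {k : Type u} [Field k] {X : Scheme.{u}} [IsIntegral X] [X.Over (Spec (CommRingCat.of k))]

theorem gg_gl (c : k) : gg (⊤ : X.Opens) (CurvesB.HZero.gl k X c) = algebraMap k X.functionField c :=
  (congrArg (gg (⊤ : X.Opens)) (ores_refl (CurvesB.HZero.gl k X c)).symm).trans (germ_str (⊤ : X.Opens) c)

omit [IsIntegral X] [X.Over (Spec (CommRingCat.of k))] in
/-- Functions in the vanishing ideal of `Z` vanish at the points of `Z`. -/
theorem germ_mem_maximalIdeal (Z : Closeds X) (U : X.affineOpens) (x : X) (hxZ : x ∈ Z) (hx : x ∈ U.1)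
    (a : Γ(X, U.1)) (ha : a ∈ (Scheme.IdealSheafData.vanishingIdeal Z).ideal U) :
    X.presheaf.germ U.1 x hx a ∈ IsLocalRing.maximalIdeal (X.presheaf.stalk x) := by
  have h1 : x ∈ (Scheme.IdealSheafData.vanishingIdeal Z).support := by
    rw [← SetLike.mem_coe, Scheme.IdealSheafData.coe_support_vanishingIdeal]
    exact hxZ
  have h2 := Scheme.IdealSheafData.mem_support_iff.1 h1 U
  rw [Scheme.mem_zeroLocus_iff] at h2
  have h3 := h2 a ha
  rw [Scheme.mem_basicOpen _ _ _ hx] at h3
  rw [IsLocalRing.mem_maximalIdeal, mem_nonunits_iff]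
  exact h3

/-- The maximal ideal at the point is generated by the uniformizer of the pole data. -/
theorem exists_eq_mul (D : Dix.EllPole.PoleData k X.functionField) (x : X) (hO : D.O = regAt k x)
    (t : X.presheaf.stalk x) (htm : t ∈ IsLocalRing.maximalIdeal (X.presheaf.stalk x))
    (ht : D.t = algebraMap _ X.functionField t) (g : X.presheaf.stalk x)
    (hg : g ∈ IsLocalRing.maximalIdeal (X.presheaf.stalk x)) : ∃ h, g = t * h := by
  obtain ⟨c, h, hh, he⟩ := D.residue (algebraMap _ X.functionField g) (by rw [hO]; exact ⟨g, rfl⟩)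
  rw [hO] at hh
  obtain ⟨h, rfl⟩ := hh
  have hinj : Function.Injective (algebraMap (X.presheaf.stalk x) X.functionField) :=
    IsFractionRing.injective _ _
  rw [← algebraMap_str x (Opens.mem_top x) c, ht] at he
  change _ = _ + algebraMap _ _ t * algebraMap _ _ h at he
  rw [← map_mul, ← map_add] at he
  have he' := hinj he
  by_cases hc : c = 0
  · refine ⟨h, ?_⟩
    rw [he', hc, map_zero, map_zero, zero_add]
  · exfalso
    have h1 : X.presheaf.germ ⊤ x (Opens.mem_top x) (Dix.EllCech.str ⊤ c) ∈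
        IsLocalRing.maximalIdeal (X.presheaf.stalk x) := by
      have : X.presheaf.germ ⊤ x (Opens.mem_top x) (Dix.EllCech.str ⊤ c) = g - t * h := by
        rw [he']; ring
      rw [this]
      exact Ideal.sub_mem _ hg (Ideal.mul_mem_right _ _ htm)
    refine (IsLocalRing.mem_maximalIdeal _).1 h1 ?_
    exact ((IsUnit.mk0 c hc).map (Dix.EllCech.str (X := X) ⊤)).map (X.presheaf.germ ⊤ x (Opens.mem_top x)).hom

theorem exists_pow_mul (D : Dix.EllPole.PoleData k X.functionField) (x : X) (hO : D.O = regAt k x)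
    (t : X.presheaf.stalk x) (htm : t ∈ IsLocalRing.maximalIdeal (X.presheaf.stalk x))
    (ht : D.t = algebraMap _ X.functionField t) (n : ℕ) (g : X.presheaf.stalk x)
    (hg : g ∈ IsLocalRing.maximalIdeal (X.presheaf.stalk x) ^ n) : ∃ h, g = t ^ n * h := by
  have h1 : IsLocalRing.maximalIdeal (X.presheaf.stalk x) ≤ Ideal.span {t} := fun g hg => by
    obtain ⟨h, rfl⟩ := exists_eq_mul D x hO t htm ht g hg
    exact Ideal.mem_span_singleton.2 ⟨h, rfl⟩
  have h2 := Ideal.pow_right_mono h1 n hg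
  rw [Ideal.span_singleton_pow, Ideal.mem_span_singleton] at h2
  exact h2

/-- A function regular away from `x` with a pole of order at most `n` at `x` gives a section of `O(n x)`. -/
theorem exists_section (D : Dix.EllPole.PoleData k X.functionField) {U : X.Opens} [Nonempty U]
    (x : X) (hU : ∀ y : X, y ∈ U ↔ y ≠ x) (hP : D.P = pole k U) (hO : D.O = regAt k x)
    (t : X.presheaf.stalk x) (htm : t ∈ IsLocalRing.maximalIdeal (X.presheaf.stalk x))
    (ht : D.t = algebraMap _ X.functionField t) (hx : IsClosed ({x} : Set X)) (n : ℕ)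
    {M : X.Modules} (hM : PicF.IsInvertible M) (s : Γ(M, ⊤))
    (hs : IsZeroIdeal M s ((Scheme.IdealSheafData.vanishingIdeal ⟨{x}, hx⟩) ^ n))
    (f : X.functionField) (hf : f ∈ D.P) (hf' : D.t ^ n * f ∈ D.O) :
    ∃ σ : Γ(M, ⊤), ∀ (U : X.Opens) [Nonempty U] (e : Γ(M, U)) (he : IsGen e),
      gval he σ = f * gval he s := by
  refine exists_mul s f fun y => ?_
  by_cases hy : y = x
  · subst hy
    obtain ⟨V, e, hyV, -, hV, he⟩ := Ega2.TensGen.exists_affine_gen hM y (V := ⊤) trivial
    have hneV : Nonempty V := ⟨⟨y, hyV⟩⟩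
    obtain ⟨a, ha⟩ := he.exists_eq (res M le_top s)
    have h1 := hs ⟨V, hV⟩ e he a ha
    have h2 : a ∈ ((Scheme.IdealSheafData.vanishingIdeal ⟨{y}, hx⟩) ^ n : X.IdealSheafData).ideal ⟨V, hV⟩ := by
      rw [h1]; exact Ideal.mem_span_singleton_self a
    have h3 : X.presheaf.germ V y hyV a ∈ IsLocalRing.maximalIdeal (X.presheaf.stalk y) ^ n := by
      rw [Scheme.IdealSheafData.ideal_pow] at h2
      have h4 : ((Scheme.IdealSheafData.vanishingIdeal (X := X) ⟨{y}, hx⟩).ideal ⟨V, hV⟩).map
          (X.presheaf.germ V y hyV).hom ≤ IsLocalRing.maximalIdeal (X.presheaf.stalk y) := by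
        rw [Ideal.map_le_iff_le_comap]
        intro b hb
        exact germ_mem_maximalIdeal ⟨{y}, hx⟩ ⟨V, hV⟩ y rfl hyV b hb
      have h5 := Ideal.mem_map_of_mem (X.presheaf.germ V y hyV).hom h2
      exact Ideal.pow_right_mono h4 n (by rw [← Ideal.map_pow]; exact h5)
    obtain ⟨b, hb⟩ := exists_pow_mul D y hO t htm ht n _ h3
    rw [hO] at hf'
    obtain ⟨c, hc⟩ := hf'
    have h6 : y ∈ reg (f * gg V a) := by
      refine ⟨c * b, ?_⟩
      have h7 : gg V a = algebraMap (X.presheaf.stalk y) X.functionField (X.presheaf.germ V y hyV a) :=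
        (X.algebraMap_germ_eq_germToFunctionField hyV a).symm
      rw [map_mul, h7, hb, map_mul, map_pow, ← ht]
      change (algebraMap _ _) c * _ = _
      rw [show (algebraMap _ _) c = D.t ^ n * f from hc]
      ring
    obtain ⟨V', hyV', r, hr⟩ := mem_reg_iff_exists.mp h6
    have hneV' : Nonempty V' := ⟨⟨y, hyV'⟩⟩
    refine ⟨V ⊓ V', inferInstance, ⟨hyV, hyV'⟩, res M inf_le_left e, ores inf_le_left a, ores inf_le_right r,
      he.res _, ?_, ?_⟩
    · rw [← res_smul, ← ha, res_res]
    · rw [gg_ores, gg_ores]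
      exact hr
  · have hyU := (hU y).2 hy
    rw [hP] at hf
    obtain ⟨r, hr⟩ := hf
    obtain ⟨V, e, hyV, hVU, hV, he⟩ := Ega2.TensGen.exists_affine_gen hM y (V := U) hyU
    have hneV : Nonempty V := ⟨⟨y, hyV⟩⟩
    obtain ⟨a, ha⟩ := he.exists_eq (res M le_top s)
    refine ⟨V, hneV, hyV, e, a, ores hVU r * a, he, ha, ?_⟩
    rw [map_mul, gg_ores]
    congr 1

end K318.PoleSec
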