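import Groth.Agent.CurvesB.VeryAmple
import Groth.Agent.CurvesB.SepPoints
import Groth.Agent.CurvesB.VABaseChange
import Groth.Agent.S1532

/-!
# Complete linear systems which separate points and tangent vectors give closed immersions

`isClosedImmersion_of_spanning`: the version of `Groth.Agent.CurvesB.VeryAmple.of_separates` for a given spanning
family of global sections and a given morphism to projective space attached to it (same proof);
`isClosedImmersion_of_deg`: the case of an invertible module of degree `≥ 2 g + 1` on a geometrically integral curve.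
-/

set_option autoImplicit false
universe u
open CategoryTheory CategoryTheory.Limits AlgebraicGeometry TopologicalSpace Opposite

open Groth.Agent

namespace K318.VASpan

open Groth.Agent.CurvesC.Gen Groth.Agent.CurvesC.ProjMap Groth.Agent.CurvesC.ProjSpaceBasic
open Groth.Agent.VarietyB Groth.Agent.CurvesB.VeryAmple Groth.Agent.CurvesB Groth.Agent.CurvesC.PullIso

section Main

variable {k K : Type u} [Field k] [Field K] [Algebra k K] {X Y : Scheme.{u}}
  {f : X ⟶ Spec (CommRingCat.of k)} {q : Y ⟶ X} {g : Y ⟶ Spec (CommRingCat.of K)}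

/-- The morphism attached to a spanning family of sections of a separating module is a closed immersion. -/
theorem isClosedImmersion_of_spanning [IsAlgClosed K]
    (H : IsPullback q g f (Spec.map (CommRingCat.ofHom (algebraMap k K))))
    [IsProper f] {L : X.Modules} (hL : PicF.IsInvertible L)
    (hM : Separates ((Scheme.Modules.pullback q).obj L)) {n : ℕ} (σ : Fin (n + 1) → Γ(L, ⊤))
    (hσ : letI := FlatH0.modSpec f L; Submodule.span (CommRingCat.of k) (Set.range σ) = ⊤)
    (φ : X ⟶ CohB1.ProjSpace n k) (hφf : φ ≫ CohB1.ProjSpace.toSpec n k = f)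
    (hφD : ∀ i, φ ⁻¹ᵁ Dp n k i = CohB1.genLocus L (ofSec (σ i)))
    (hφr : ∀ i j, φ.app (Dp n k i) (ratio n k i j) • sec (ofSec (σ i)) (φ ⁻¹ᵁ Dp n k i) =
      sec (ofSec (σ j)) (φ ⁻¹ᵁ Dp n k i)) : IsClosedImmersion φ := by
  subst hφf
  have : CompactSpace X := QuasiCompact.compactSpace_of_compactSpace (φ ≫ CohB1.ProjSpace.toSpec n k)
  have : QuasiSeparatedSpace X := quasiSeparatedSpace_of_quasiSeparated (φ ≫ CohB1.ProjSpace.toSpec n k)
  have hprop : IsProper (CohB1.ProjSpace.toSpec n k) := inferInstance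
  have hφp : IsProper φ := IsProper.of_comp φ (CohB1.ProjSpace.toSpec n k)
  let Sp := Spec.map (CommRingCat.ofHom (algebraMap k K))
  let P := pullback (CohB1.ProjSpace.toSpec n k) Sp
  let p : P ⟶ CohB1.ProjSpace n k := pullback.fst _ _
  let t : P ⟶ Spec (CommRingCat.of K) := pullback.snd _ _
  have HP : IsPullback p t (CohB1.ProjSpace.toSpec n k) Sp := IsPullback.of_hasPullback _ _
  let ψ : Y ⟶ P := HP.lift (q ≫ φ) g (by rw [Category.assoc]; exact H.w)
  have w1 : ψ ≫ p = q ≫ φ := HP.lift_fst _ _ _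
  have w2 : ψ ≫ t = g := HP.lift_snd _ _ _
  have Hψ : IsPullback q ψ φ p := by
    refine IsPullback.of_bot (h₃₁ := Sp) (v₂₁ := t) (v₂₂ := CohB1.ProjSpace.toSpec n k) ?_ w1.symm HP
    rw [w2]
    exact H
  have hψp : IsProper ψ := MorphismProperty.of_isPullback Hψ hφp
  have htl : LocallyOfFiniteType t :=
    MorphismProperty.of_isPullback HP (inferInstanceAs (LocallyOfFiniteType (CohB1.ProjSpace.toSpec n k)))
  have hSf : Flat Sp := by
    rw [HasRingHomProperty.Spec_iff (P := @Flat)]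
    change (algebraMap k K).Flat
    rw [RingHom.flat_algebraMap_iff]
    infer_instance
  have hSs : Surjective Sp := ⟨fun x => ⟨Classical.arbitrary _, Subsingleton.elim _ _⟩⟩
  have hpf : Flat p := MorphismProperty.of_isPullback HP.flip hSf
  have hps : Surjective p := MorphismProperty.of_isPullback HP.flip hSs
  have hpq : QuasiCompact p := MorphismProperty.of_isPullback HP.flip (inferInstanceAs (QuasiCompact Sp))
  -- the key formula
  have hU : ∀ i, ψ ⁻¹ᵁ (p ⁻¹ᵁ Dp n k i) = q ⁻¹ᵁ (φ ⁻¹ᵁ Dp n k i) := fun i => by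
    rw [← Scheme.Hom.comp_preimage, ← Scheme.Hom.comp_preimage, w1]
  have he : ∀ i, IsGen ((Scheme.Modules.pullback q).obj L) (ψ ⁻¹ᵁ (p ⁻¹ᵁ Dp n k i))
      (PullSec.sec q L (hU i).le (sec (ofSec (σ i)) (φ ⁻¹ᵁ Dp n k i))) := fun i => by
    refine isGen_pullSec q L ?_ _
    rw [← le_genLocus_iff, hφD]
  have key : ∀ (τ : Coh.structureModule Y ⟶ (Scheme.Modules.pullback q).obj L) (i : Fin (n + 1)),
      ∃ β : Γ(P, p ⁻¹ᵁ Dp n k i), ψ.app (p ⁻¹ᵁ Dp n k i) β •
        PullSec.sec q L (hU i).le (sec (ofSec (σ i)) (φ ⁻¹ᵁ Dp n k i)) =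
          sec τ (ψ ⁻¹ᵁ (p ⁻¹ᵁ Dp n k i)) := by
    intro τ i
    obtain ⟨c, hc⟩ := exists_combination H L (isCoh_of_isInvertible hL).1 σ hσ (sec τ ⊤)
    refine ⟨_, exists_beta L (fun i => ofSec (σ i)) φ hφr p t ψ w1 w2 τ c ?_ i (hU i).le⟩
    simpa using hc
  have hcov : ∀ z : P, ∃ i, z ∈ p ⁻¹ᵁ Dp n k i := by
    intro z
    have h1 : p z ∈ (⨆ i, Dp n k i : (CohB1.ProjSpace n k).Opens) := by rw [iSup_Dp]; trivial
    obtain ⟨i, hi⟩ := TopologicalSpace.Opens.mem_iSup.1 h1
    exact ⟨i, hi⟩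
  have hψc : IsClosedImmersion ψ := by
    refine ClosedImmPts.isClosedImmersion_of_closedPoints ψ t ?_ ?_
    · intro x y hx hy hxy
      by_contra hne
      obtain ⟨τ, hτx, hτy⟩ := hM.h1 x y hx hy hne
      obtain ⟨i, hi⟩ := hcov (ψ y)
      obtain ⟨β, hβ⟩ := key τ i
      have h1 := genLocus_inf_eq_basicOpen (he i) τ hβ
      rw [← Scheme.preimage_basicOpen] at h1
      have h2 : y ∈ ψ ⁻¹ᵁ P.basicOpen β := by rw [← h1]; exact ⟨hτy, hi⟩
      have h3 : x ∈ ψ ⁻¹ᵁ P.basicOpen β := by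
        change ψ x ∈ P.basicOpen β
        rw [hxy]
        exact h2
      rw [← h1] at h3
      exact hτx h3.1
    · intro y hy
      have hle : (IsLocalRing.maximalIdeal (P.presheaf.stalk (ψ y))).map (ψ.stalkMap y).hom ≤
          IsLocalRing.maximalIdeal (Y.presheaf.stalk y) := by
        rw [Ideal.map_le_iff_le_comap]
        intro z hz
        exact (IsLocalRing.mem_maximalIdeal _).2 fun hu => (IsLocalRing.mem_maximalIdeal _).1 hz
          (isUnit_of_map_unit _ _ hu)
      by_contra hne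
      obtain ⟨V, hyV, e, τ, a, he', ha, ham, haI⟩ := hM.h2 y hy _ (lt_of_le_of_ne hle hne)
      obtain ⟨i, hi⟩ := hcov (ψ y)
      obtain ⟨β, hβ⟩ := key τ i
      have hyU : y ∈ ψ ⁻¹ᵁ (p ⁻¹ᵁ Dp n k i) := hi
      have l1 : (ψ ⁻¹ᵁ (p ⁻¹ᵁ Dp n k i)) ⊓ V ≤ ψ ⁻¹ᵁ (p ⁻¹ᵁ Dp n k i) := inf_le_left
      have l2 : (ψ ⁻¹ᵁ (p ⁻¹ᵁ Dp n k i)) ⊓ V ≤ V := inf_le_right
      obtain ⟨u, hu⟩ := (he'.mono l2).exists_eq (((Scheme.Modules.pullback q).obj L).presheaf.map (homOfLE l1).op
        (PullSec.sec q L (hU i).le (sec (ofSec (σ i)) (φ ⁻¹ᵁ Dp n k i))))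
      have hunit : IsUnit u := (isGen_iff_of_eq_smul (he'.mono l2) hu).1 ((he i).mono l1)
      have hau : Y.presheaf.map (homOfLE l2).op a = Y.presheaf.map (homOfLE l1).op (ψ.app (p ⁻¹ᵁ Dp n k i) β) * u := by
        apply (he'.mono l2).injective
        rw [← map_smul_section, ha, map_sec, mul_smul, hu, ← map_smul_section, hβ, map_sec]
      have hyW : y ∈ (ψ ⁻¹ᵁ (p ⁻¹ᵁ Dp n k i)) ⊓ V := ⟨hyU, hyV⟩
      have hg : Y.presheaf.germ V y hyV a = (ψ.stalkMap y).hom (P.presheaf.germ _ (ψ y) hi β) *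
          Y.presheaf.germ _ y hyW u := by
        have h1 := congr(Y.presheaf.germ _ y hyW $hau)
        rw [map_mul] at h1
        have h2 : Y.presheaf.germ _ y hyW (Y.presheaf.map (homOfLE l2).op a) = Y.presheaf.germ V y hyV a :=
          TopCat.Presheaf.germ_res_apply _ _ _ _ _
        have h3 : Y.presheaf.germ _ y hyW (Y.presheaf.map (homOfLE l1).op (ψ.app (p ⁻¹ᵁ Dp n k i) β)) =
            Y.presheaf.germ _ y hyU (ψ.app (p ⁻¹ᵁ Dp n k i) β) :=
          TopCat.Presheaf.germ_res_apply _ _ _ _ _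
        rw [h2, h3] at h1
        rw [h1]
        congr 1
        exact (Scheme.Hom.germ_stalkMap_apply ψ _ y hi β).symm
      have hgu : IsUnit (Y.presheaf.germ _ y hyW u) := hunit.map _
      have hm : P.presheaf.germ _ (ψ y) hi β ∈ IsLocalRing.maximalIdeal (P.presheaf.stalk (ψ y)) := by
        refine (IsLocalRing.mem_maximalIdeal _).2 fun hu' => (IsLocalRing.mem_maximalIdeal _).1 ham ?_
        rw [hg]
        exact (hu'.map _).mul hgu
      apply haI
      rw [hg]
      exact Ideal.mul_mem_right _ _ (Ideal.mem_map_of_mem _ hm)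
  exact ClosedImmPts.isClosedImmersion_of_isPullback Hψ

end Main

section Deg

variable (k : Type u) [Field k] (X : Scheme.{u}) [X.Over (Spec (CommRingCat.of k))]
    [IsProper (X ↘ (Spec (CommRingCat.of k)))] [GeometricallyIntegral (X ↘ (Spec (CommRingCat.of k)))]

/-- An invertible module of degree `≥ 2 g + 1` separates points and tangent vectors over an algebraic closure. -/
theorem separates_of_deg (hdim : topologicalKrullDim X = 1)
    (h0 : Module.finrank k (Coh.HH X (Coh.structureModule X) 0) = 1) (L : X.Modules) (hL : PicF.IsInvertible L)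
    (hdeg : 2 * (Curv2.genus k X : ℤ) + 1 ≤ Curv2.deg k X L 1) :
    Separates ((Scheme.Modules.pullback (Curv2.bcFst k X (AlgebraicClosure k))).obj L) := by
  let K := AlgebraicClosure k
  letI := CurvesB.VABaseChange.overBc k X K
  have H := CurvesB.VABaseChange.isPullback_bc k X K
  have hp : IsProper ((Curv2.bc k X K) ↘ Spec (CommRingCat.of K)) := CurvesB.VABaseChange.isProper H
  have hint : IsIntegral (Curv2.bc k X K) := CurvesB.VABaseChange.isIntegral H
  have hdim' : topologicalKrullDim (Curv2.bc k X K) = 1 :=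
    (CurvesB.VABaseChange.topologicalKrullDim_eq H).trans hdim
  have h0' : Module.finrank K (Coh.HH (Curv2.bc k X K) (Coh.structureModule (Curv2.bc k X K)) 0) = 1 :=
    (CurvesB.VABaseChange.finrank_structure_eq H 0).trans h0
  have hM : PicF.IsInvertible ((Scheme.Modules.pullback (Curv2.bcFst k X K)).obj L) :=
    Fdesc.LocGen.isInvertible_pullback _ hL
  have hloc : IsLocallyNoetherian (Curv2.bc k X K) :=
    LocallyOfFiniteType.isLocallyNoetherian ((Curv2.bc k X K) ↘ Spec (CommRingCat.of K))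
  have hV : CurvesB.SepPoints.VanShort K (Curv2.bc k X K)
      ((Scheme.Modules.pullback (Curv2.bcFst k X K)).obj L) := by
    intro Z _ _ hZ hle
    refine (Groth.Agent.S1532.result K (Curv2.bc k X K) hdim' h0' _ hM Z hZ ?_).1
    rw [CurvesB.VABaseChange.genus_eq H, CurvesB.VABaseChange.deg_eq H L (CurvesB.VeryAmple.isCoh_of_isInvertible hL).1 1]
    have : ((Module.finrank K (Coh.HH (Curv2.bc k X K) (ClSub.quotMod Z) 0) : ℕ) : ℤ) ≤ 2 := by
      exact_mod_cast hle
    omega
  refine ⟨?_, ?_, ?_⟩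
  · intro y hy
    obtain ⟨s, hs, -⟩ := CurvesB.SepPoints.exists_sec_points _ hM hV y y hy hy
    exact ⟨s, hs⟩
  · intro x y hx hy hne
    obtain ⟨s, hs, h⟩ := CurvesB.SepPoints.exists_sec_points _ hM hV x y hx hy
    exact ⟨s, h hne, hs⟩
  · intro y hy I hI
    exact CurvesB.SepPoints.exists_sec_tangent _ hM hV y hy I hI

/-- Let `deg L ≥ 2 g + 1` on a geometrically integral proper curve. A finite family `σ` spanning `H^0(X, L)` defines a
closed immersion into projective space. -/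
theorem exists_closedImmersion (hdim : topologicalKrullDim X = 1)
    (h0 : Module.finrank k (Coh.HH X (Coh.structureModule X) 0) = 1) (L : X.Modules) (hL : PicF.IsInvertible L)
    (hdeg : 2 * (Curv2.genus k X : ℤ) + 1 ≤ Curv2.deg k X L 1) {n : ℕ} (σ : Fin (n + 1) → Γ(L, ⊤))
    (hσ : letI := FlatH0.modSpec (X ↘ (Spec (CommRingCat.of k))) L
      Submodule.span (CommRingCat.of k) (Set.range σ) = ⊤) :
    ∃ φ : X ⟶ CohB1.ProjSpace n k, IsClosedImmersion φ ∧
      φ ≫ CohB1.ProjSpace.toSpec n k = X ↘ (Spec (CommRingCat.of k)) ∧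
      (∀ i, φ ⁻¹ᵁ Dp n k i = CohB1.genLocus L (ofSec (σ i))) ∧
      (∀ i j, φ.app (Dp n k i) (ratio n k i j) • sec (ofSec (σ i)) (φ ⁻¹ᵁ Dp n k i) =
        sec (ofSec (σ j)) (φ ⁻¹ᵁ Dp n k i)) ∧
      ∃ e : (Scheme.Modules.pullback φ).obj (Twist.twistProjSpace n k 1) ≅ L, ∀ i,
        (Scheme.Modules.pullback φ).map (T n k i) ≫ e.hom = pullUnit φ ≫ ofSec (σ i) := by
  have hM := separates_of_deg k X hdim h0 L hL hdeg
  have H := CurvesB.VABaseChange.isPullback_bc k X (AlgebraicClosure k)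
  have hs := iSup_genLocus_eq_top H hL σ hσ hM.h0
  obtain ⟨φ, -, hφf, hφD, hφr, eφ⟩ := exists_morphism (X ↘ (Spec (CommRingCat.of k))) L (fun i => ofSec (σ i)) hs
  exact ⟨φ, isClosedImmersion_of_spanning H hL hM σ hσ φ hφf hφD hφr, hφf, hφD, hφr, eφ⟩

end Deg

end K318.VASpan
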