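import Mathlib.Algebra.MvPolynomial.Eval
import Mathlib.Algebra.MvPolynomial.CommRing
import Mathlib.Algebra.Polynomial.AlgebraMap
import Mathlib.Algebra.Polynomial.Degree.Lemmas
import Mathlib.Tactic.LinearCombination
import Mathlib.Tactic.FinCases
import Mathlib.Data.Fin.VecNotation

/-!
# The kernel of `k[X, Y] → F`, `X ↦ x`, `Y ↦ y` for a solution of a Weierstrass equation

If `1, x, x ^ 2, …, y, x y, …` are linearly independent over `k` the kernel is generated by the Weierstrass polynomial.
-/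

set_option autoImplicit false

namespace K318.WeierAlg

open MvPolynomial

universe u v

variable {k : Type u} {F : Type v} [Field k] [Field F] [Algebra k F]

/-- There is no relation `p(x) + q(x) y = 0`. -/
def Free (k : Type u) {F : Type v} [Field k] [Field F] [Algebra k F] (x y : F) : Prop :=
  ∀ p q : Polynomial k, Polynomial.aeval x p + Polynomial.aeval x q * y = 0 → p = 0 ∧ q = 0

/-- The affine Weierstrass polynomial. -/
noncomputable def weier (a₁ a₂ a₃ a₄ a₆ : k) : MvPolynomial (Fin 2) k :=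
  X 1 ^ 2 + C a₁ * X 0 * X 1 + C a₃ * X 1 - X 0 ^ 3 - C a₂ * X 0 ^ 2 - C a₄ * X 0 - C a₆

theorem exists_rem (a₁ a₂ a₃ a₄ a₆ : k) (p : MvPolynomial (Fin 2) k) :
    ∃ a b : Polynomial k, weier a₁ a₂ a₃ a₄ a₆ ∣
      p - (Polynomial.aeval (X 0 : MvPolynomial (Fin 2) k) a +
        Polynomial.aeval (X 0 : MvPolynomial (Fin 2) k) b * X 1) := by
  induction p using MvPolynomial.induction_on with
  | C c =>
    refine ⟨Polynomial.C c, 0, ?_⟩
    rw [Polynomial.aeval_C, map_zero, zero_mul, add_zero]
    change _ ∣ C c - C c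
    rw [sub_self]
    exact dvd_zero _
  | add p q hp hq =>
    obtain ⟨a, b, c, hc⟩ := hp
    obtain ⟨a', b', c', hc'⟩ := hq
    refine ⟨a + a', b + b', c + c', ?_⟩
    rw [map_add, map_add]
    linear_combination hc + hc'
  | mul_X p i hp =>
    obtain ⟨a, b, c, hc⟩ := hp
    fin_cases i
    · refine ⟨a * Polynomial.X, b * Polynomial.X, c * X 0, ?_⟩
      simp only [map_mul, Polynomial.aeval_X, Fin.zero_eta]
      linear_combination X 0 * hc
    · refine ⟨b * (Polynomial.X ^ 3 + Polynomial.C a₂ * Polynomial.X ^ 2 + Polynomial.C a₄ * Polynomial.X +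
          Polynomial.C a₆), a - b * (Polynomial.C a₁ * Polynomial.X + Polynomial.C a₃),
        c * X 1 + Polynomial.aeval (X 0 : MvPolynomial (Fin 2) k) b, ?_⟩
      have hC : ∀ t : k, (algebraMap k (MvPolynomial (Fin 2) k)) t = C t := fun t => rfl
      simp only [map_mul, map_add, map_sub, map_pow, Polynomial.aeval_X, Polynomial.aeval_C, Fin.mk_one, hC]
      rw [weier] at hc ⊢
      linear_combination X 1 * hc

theorem aeval_aeval_X (x y : F) (a : Polynomial k) :
    aeval ![x, y] (Polynomial.aeval (X 0 : MvPolynomial (Fin 2) k) a) = Polynomial.aeval x a := by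
  have h := Polynomial.aeval_algHom_apply (aeval ![x, y] : MvPolynomial (Fin 2) k →ₐ[k] F) (X 0) a
  rw [aeval_X] at h
  exact h.symm

theorem aeval_weier (x y : F) (a₁ a₂ a₃ a₄ a₆ : k) :
    aeval ![x, y] (weier a₁ a₂ a₃ a₄ a₆) = y ^ 2 + algebraMap k F a₁ * x * y + algebraMap k F a₃ * y -
      x ^ 3 - algebraMap k F a₂ * x ^ 2 - algebraMap k F a₄ * x - algebraMap k F a₆ := by
  simp [weier]

/-- The kernel is generated by the Weierstrass polynomial. -/
theorem dvd_of_aeval_eq_zero {x y : F} (hfree : Free k x y) {a₁ a₂ a₃ a₄ a₆ : k}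
    (hW : y ^ 2 + algebraMap k F a₁ * x * y + algebraMap k F a₃ * y =
      x ^ 3 + algebraMap k F a₂ * x ^ 2 + algebraMap k F a₄ * x + algebraMap k F a₆)
    {p : MvPolynomial (Fin 2) k} (hp : aeval ![x, y] p = 0) : weier a₁ a₂ a₃ a₄ a₆ ∣ p := by
  obtain ⟨a, b, c, hc⟩ := exists_rem a₁ a₂ a₃ a₄ a₆ p
  have h1 := congrArg (aeval ![x, y]) hc
  rw [map_mul, aeval_weier, map_sub, hp, map_add, map_mul, aeval_aeval_X, aeval_aeval_X, aeval_X] at h1
  have h2 : Polynomial.aeval x a + Polynomial.aeval x b * y = 0 := by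
    have h3 : (![x, y] : Fin 2 → F) 1 = y := rfl
    rw [h3] at h1
    linear_combination -h1 - (aeval ![x, y] c) * hW
  obtain ⟨rfl, rfl⟩ := hfree a b h2
  refine ⟨c, ?_⟩
  rw [← hc]
  simp

theorem weier_aeval_eq_zero {x y : F} {a₁ a₂ a₃ a₄ a₆ : k}
    (hW : y ^ 2 + algebraMap k F a₁ * x * y + algebraMap k F a₃ * y =
      x ^ 3 + algebraMap k F a₂ * x ^ 2 + algebraMap k F a₄ * x + algebraMap k F a₆) :
    aeval ![x, y] (weier a₁ a₂ a₃ a₄ a₆) = 0 := by
  rw [aeval_weier]
  linear_combination hW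

/-- An affine change of coordinates. -/
theorem Free.change {x y : F} (h : Free k x y) {α γ : k} (hα : α ≠ 0) (hγ : γ ≠ 0) (β δ ε : k) :
    Free k (algebraMap k F α * x + algebraMap k F β)
      (algebraMap k F γ * y + algebraMap k F δ * x + algebraMap k F ε) := by
  intro p q hpq
  set l : Polynomial k := Polynomial.C α * Polynomial.X + Polynomial.C β with hl
  have hl1 : Polynomial.aeval x l = algebraMap k F α * x + algebraMap k F β := by
    simp [hl]
  have hcomp : ∀ r : Polynomial k, Polynomial.aeval x (r.comp l) = Polynomial.aeval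
      (algebraMap k F α * x + algebraMap k F β) r := by
    intro r
    rw [Polynomial.aeval_comp, hl1]
  have h1 := h (p.comp l + q.comp l * (Polynomial.C δ * Polynomial.X + Polynomial.C ε))
    (Polynomial.C γ * q.comp l) (by
      simp only [map_add, map_mul, hcomp, Polynomial.aeval_C, Polynomial.aeval_X]
      linear_combination hpq)
  obtain ⟨h2, h3⟩ := h1
  have hinj : ∀ r : Polynomial k, r.comp l = 0 → r = 0 := by
    intro r hr
    have h4 : (r.comp l).comp (Polynomial.C α⁻¹ * (Polynomial.X - Polynomial.C β)) = r := by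
      rw [Polynomial.comp_assoc]
      have h5 : l.comp (Polynomial.C α⁻¹ * (Polynomial.X - Polynomial.C β)) = Polynomial.X := by
        rw [hl]
        simp only [Polynomial.add_comp, Polynomial.mul_comp, Polynomial.C_comp, Polynomial.X_comp]
        rw [← mul_assoc, ← Polynomial.C_mul, mul_inv_cancel₀ hα, Polynomial.C_1, one_mul, sub_add_cancel]
      rw [h5, Polynomial.comp_X]
    rw [← h4, hr, Polynomial.zero_comp]
  have h4 : q = 0 := by
    apply hinj
    rcases mul_eq_zero.1 h3 with h5 | h5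
    · exact absurd (Polynomial.C_eq_zero.1 h5) hγ
    · exact h5
  subst h4
  rw [Polynomial.zero_comp, zero_mul, add_zero] at h2
  exact ⟨hinj p h2, rfl⟩

end K318.WeierAlg
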