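import Groth.Agent.Lefpen.H705.HypSmooth
import Groth.Agent.Fga.QT4
import Mathlib.Algebra.MvPolynomial.Division
import Groth.Agent.Curves.K318.WeierAlg

/-!
# The image of an integral scheme in `P^2` with a given equation

* `le_of_sat`: comparison of two quasi-coherent ideal sheaves on an affine open, from the comparison on the complement
  of the divisor of a function which is a nonzerodivisor modulo the second one;
* `ker_eq`: the ideal of the image of a morphism from an integral scheme to `P^2` is the ideal of the plane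
  curve `V_+(W)` if this is so on `D_+(T_2)` and `W(1, 1, 0) ≠ 0`.
-/

set_option autoImplicit false
universe u

open CategoryTheory CategoryTheory.Limits AlgebraicGeometry Opposite TopologicalSpace

open Groth.Agent

namespace K318.WeierIdeal

open LefPen Groth.Agent.Lefpen.H705.HypIdeal Groth.Agent.Lefpen.H705.ChartPoly
open Groth.Agent.Lefpen.H705.HypSmooth Groth.Agent.Sga5

theorem le_of_sat {P : Scheme.{u}} {I J : P.IdealSheafData} (U U₀ : P.affineOpens) (r : Γ(P, U.1))
    (hr : P.basicOpen r ≤ U₀.1) (h0 : I.ideal U₀ ≤ J.ideal U₀)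
    (hsat : ∀ f, r * f ∈ J.ideal U → f ∈ J.ideal U) : I.ideal U ≤ J.ideal U := by
  intro f hf
  let V : P.affineOpens := P.affineBasicOpen r
  have hVU : V ≤ U := P.basicOpen_le r
  have hV0 : V ≤ U₀ := hr
  have h1 : (P.presheaf.map (homOfLE (show V.1 ≤ U.1 from hVU)).op).hom f ∈ I.ideal V :=
    I.ideal_le_comap_ideal hVU hf
  have h2 : I.ideal V ≤ J.ideal V := by
    rw [← I.map_ideal hV0, ← J.map_ideal hV0]
    exact Ideal.map_mono h0
  have h3 := h2 h1
  rw [← J.map_ideal hVU] at h3
  let _ : Algebra Γ(P, U.1) Γ(P, V.1) := (P.presheaf.map (homOfLE (show V.1 ≤ U.1 from hVU)).op).hom.toAlgebra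
  have hloc : IsLocalization.Away r Γ(P, V.1) := U.2.isLocalization_basicOpen r
  replace h3 : algebraMap Γ(P, U.1) Γ(P, V.1) f ∈ Ideal.map (algebraMap Γ(P, U.1) Γ(P, V.1)) (J.ideal U) := h3
  rw [IsLocalization.mem_map_algebraMap_iff (Submonoid.powers r)] at h3
  obtain ⟨⟨⟨a, ha⟩, ⟨_, n, rfl⟩⟩, h4⟩ := h3
  rw [← map_mul, IsLocalization.eq_iff_exists (Submonoid.powers r)] at h4
  obtain ⟨⟨_, m, rfl⟩, h5⟩ := h4
  have h6 : r ^ (m + n) * f ∈ J.ideal U := by
    have h7 : r ^ (m + n) * f = r ^ m * a := by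
      rw [← h5]; simp only; ring
    rw [h7]
    exact Ideal.mul_mem_left _ _ ha
  have h8 : ∀ l : ℕ, r ^ l * f ∈ J.ideal U → f ∈ J.ideal U := by
    intro l
    induction l with
    | zero => intro h; simpa using h
    | succ l ih =>
      intro h
      apply ih
      apply hsat
      rw [← mul_assoc, ← pow_succ']
      exact h
  exact h8 _ h6

variable {k : Type u} [Field k] {d : ℕ}

/-- The function `T_i / T_j` on the chart `D_+(T_j)`. -/
noncomputable def rat (j i : Fin 3) : Γ(CohB1.ProjSpace 2 k, (chartAff (r := 2) (k := k) j).1) :=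
  CurvesC.ProjSpaceBasic.ratio 2 k j i

theorem rat_eq_polyToChart (j : Fin 3) (l : Fin 2) :
    rat (k := k) j (j.succAbove l) = polyToChart j (MvPolynomial.X l) := by
  have h := dehom_eq (⟨MvPolynomial.X (j.succAbove l), X_mem 2 k (j.succAbove l)⟩ : Form 2 k 1) j
  rw [show (ProjChart.dehom 2 k j (⟨MvPolynomial.X (j.succAbove l), X_mem 2 k (j.succAbove l)⟩ : Form 2 k 1).1) =
    MvPolynomial.X l from ProjChart.dehom_X 2 k j l] at h
  rw [← h]
  rfl

/-- `T_2 / T_j` is a nonzerodivisor modulo the equation of `V_+(W)` if `W` does not vanish at `(1, 1, 0)`. -/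
theorem sat_hyp (W : Form 2 k d) (hW : MvPolynomial.eval ![1, 1, 0] W.1 ≠ 0) (j : Fin 3) (hj : j ≠ 2)
    (f : Γ(CohB1.ProjSpace 2 k, (chartAff (r := 2) (k := k) j).1))
    (hf : rat j 2 * f ∈ (hypIdeal W).ideal (chartAff j)) :
    f ∈ (hypIdeal W).ideal (chartAff j) := by
  have h2 : j.succAbove (1 : Fin 2) = 2 := by
    fin_cases j <;> first | rfl | exact absurd rfl hj
  rw [← h2, rat_eq_polyToChart, ideal_chartAff] at hf
  rw [ideal_chartAff]
  obtain ⟨p, rfl⟩ := (polyToChart_bijective j).2 f
  rw [Ideal.map_span, Set.image_singleton] at hf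
  rw [Ideal.map_span, Set.image_singleton]
  suffices h : polyToChart j (ProjChart.dehom 2 k j W.1) ∣ polyToChart j p from Ideal.mem_span_singleton.2 h
  have hf' : polyToChart j (ProjChart.dehom 2 k j W.1) ∣ polyToChart j (MvPolynomial.X (1 : Fin 2) * p) := by
    rw [map_mul]
    exact Ideal.mem_span_singleton.1 hf
  obtain ⟨q, hq⟩ := hf'
  obtain ⟨q, rfl⟩ := (polyToChart_bijective j).2 q
  rw [← map_mul] at hq
  have h3 := (polyToChart_bijective j).1 hq
  have h4 : (MvPolynomial.X (1 : Fin 2) : MvPolynomial (Fin 2) k) ∣ ProjChart.dehom 2 k j W.1 * q := ⟨p, h3.symm⟩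
  rcases (MvPolynomial.X_prime (i := (1 : Fin 2))).dvd_or_dvd h4 with ⟨c, hc⟩ | ⟨c, hc⟩
  · exfalso
    apply hW
    have h5 : MvPolynomial.eval ![1, 1, 0] W.1 =
        MvPolynomial.eval ![1, 0] (ProjChart.dehom 2 k j W.1) := by
      have h6 : (MvPolynomial.eval ![1, 1, 0] : MvPolynomial (Fin 3) k →+* k) =
          (MvPolynomial.eval ![1, 0]).comp (ProjChart.dehom 2 k j) := by
        apply MvPolynomial.ringHom_ext
        · intro c
          rw [RingHom.comp_apply, ProjChart.dehom_C, MvPolynomial.eval_C, MvPolynomial.eval_C]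
        · intro i
          rw [RingHom.comp_apply]
          rcases eq_or_ne i j with rfl | hi
          · rw [ProjChart.dehom_X_self, map_one, MvPolynomial.eval_X]
            fin_cases i <;> first | rfl | exact absurd rfl hj
          · obtain ⟨l, rfl⟩ := Fin.exists_succAbove_eq hi
            rw [ProjChart.dehom_X, MvPolynomial.eval_X, MvPolynomial.eval_X]
            fin_cases j <;> fin_cases l <;> first | rfl | exact absurd rfl hj
      rw [h6]
      rfl
    rw [h5, hc, map_mul, MvPolynomial.eval_X]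
    exact zero_mul _
  · refine ⟨polyToChart j c, ?_⟩
    rw [← map_mul]
    congr 1
    have h7 : (MvPolynomial.X (1 : Fin 2) : MvPolynomial (Fin 2) k) * p =
        MvPolynomial.X 1 * (ProjChart.dehom 2 k j W.1 * c) := by
      rw [h3, hc]; ring
    exact mul_left_cancel₀ (MvPolynomial.X_ne_zero _) h7

theorem basicOpen_rat (j i : Fin 3) :
    (CohB1.ProjSpace 2 k).basicOpen (rat (k := k) j i) =
      (chartAff (r := 2) (k := k) j).1 ⊓ (chartAff (r := 2) (k := k) i).1 :=
  Fga.QT4.basicOpen_ratio 2 k j i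

theorem basicOpen_rat_le (j i : Fin 3) :
    (CohB1.ProjSpace 2 k).basicOpen (rat (k := k) j i) ≤ (chartAff (r := 2) (k := k) i).1 := by
  rw [basicOpen_rat]
  exact inf_le_right

/-- The ideal of the image. -/
theorem ker_eq {X : Scheme.{u}} [IsIntegral X] (φ : X ⟶ CohB1.ProjSpace 2 k) [QuasiCompact φ] (W : Form 2 k d)
    (hW : MvPolynomial.eval ![1, 1, 0] W.1 ≠ 0)
    (hη : genericPoint X ∈ φ ⁻¹ᵁ chart 2 k 2)
    (h2 : ∀ p : MvPolynomial (Fin 2) k, φ.app (chart 2 k 2) (polyToChart 2 p) = 0 ↔
      ProjChart.dehom 2 k 2 W.1 ∣ p) :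
    φ.ker = hypIdeal W := by
  have h0 : φ.ker.ideal (chartAff 2) = (hypIdeal W).ideal (chartAff 2) := by
    ext f
    obtain ⟨p, rfl⟩ := (polyToChart_bijective (r := 2) (k := k) 2).2 f
    rw [ideal_chartAff, Ideal.map_span, Set.image_singleton,
      Scheme.Hom.ker_apply, RingHom.mem_ker]
    refine Iff.trans ?_ (Ideal.mem_span_singleton (x := polyToChart 2 p)
      (y := polyToChart 2 (ProjChart.dehom 2 k 2 W.1))).symm
    refine (h2 p).trans ⟨fun ⟨c, hc⟩ => ⟨polyToChart 2 c, by rw [hc, map_mul]⟩, fun ⟨c, hc⟩ => ?_⟩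
    obtain ⟨c, rfl⟩ := (polyToChart_bijective (r := 2) (k := k) 2).2 c
    rw [← map_mul] at hc
    exact ⟨c, (polyToChart_bijective (r := 2) (k := k) 2).1 hc⟩
  have key : ∀ j : Fin 3, φ.ker.ideal (chartAff j) = (hypIdeal W).ideal (chartAff j) := by
    intro j
    rcases eq_or_ne j 2 with rfl | hj
    · exact h0
    · apply le_antisymm
      · exact le_of_sat (chartAff j) (chartAff 2) _ (basicOpen_rat_le j 2) h0.le (sat_hyp W hW j hj)
      · refine le_of_sat (chartAff j) (chartAff 2) _ (basicOpen_rat_le j 2) h0.ge fun f hf => ?_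
        rw [Scheme.Hom.ker_apply, RingHom.mem_ker] at hf ⊢
        rw [map_mul] at hf
        by_cases hne : Nonempty (φ ⁻¹ᵁ (chartAff (r := 2) (k := k) j).1)
        · rcases mul_eq_zero.1 hf with h | h
          · exfalso
            have hηj : genericPoint X ∈ φ ⁻¹ᵁ (chartAff (r := 2) (k := k) j).1 :=
              ((genericPoint_spec X).mem_open_set_iff (φ ⁻¹ᵁ (chartAff (r := 2) (k := k) j).1).isOpen).2
                (by obtain ⟨x⟩ := hne; exact ⟨x.1, trivial, x.2⟩)
            have h4 : genericPoint X ∈ φ ⁻¹ᵁ ((CohB1.ProjSpace 2 k).basicOpen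
                (rat (k := k) j 2)) := by
              rw [basicOpen_rat]
              exact ⟨hηj, hη⟩
            rw [Scheme.preimage_basicOpen] at h4
            have h5 : X.basicOpen (φ.app (chartAff (r := 2) (k := k) j).1 (rat (k := k) j 2)) = ⊥ := by
              rw [show φ.app (chartAff (r := 2) (k := k) j).1 (rat (k := k) j 2) = 0 from h]
              exact X.basicOpen_zero _
            rw [h5] at h4
            exact h4
          · exact h
        · have : IsEmpty (φ ⁻¹ᵁ (chartAff (r := 2) (k := k) j).1) := not_nonempty_iff.1 hne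
          have h5 : φ ⁻¹ᵁ (chartAff (r := 2) (k := k) j).1 = ⊥ := by
            rw [eq_bot_iff]
            intro x hx
            exact (this.false ⟨x, hx⟩).elim
          have h6 : Subsingleton Γ(X, φ ⁻¹ᵁ (chartAff (r := 2) (k := k) j).1) := by
            rw [h5]
            infer_instance
          exact Subsingleton.elim _ _
  refine Scheme.IdealSheafData.ext_of_iSup_eq_top (fun j : Fin 3 => chartAff (r := 2) (k := k) j) ?_ key
  exact iSup_chart

end K318.WeierIdeal
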