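import Groth.Agent.Curves.K318.PoleSec
import Groth.Agent.Curves.K318.WeierIdeal
import Groth.Agent.Curves.K318.PtPow
import Groth.Agent.Curves.K318.VASpan
import Groth.Agent.Curves.K318.GeomInt
import Groth.Agent.CurvesB.InvEmb
import Groth.Agent.Fga.ZeroClass

/-!
# A curve of genus one with a rational point is a plane cubic
-/

set_option autoImplicit false
universe u

open CategoryTheory CategoryTheory.Limits AlgebraicGeometry Opposite TopologicalSpace

open Groth.Agent Groth.Agent.Fdesc.LocGen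

namespace K318.WeierEmb

open K318.GenVal Groth.Agent.Dix.EllPoleData Groth.Agent.Picfga.RegLocus Groth.Agent.Picfga.ZeroDef
open LefPen Groth.Agent.Lefpen.H705.HypIdeal Groth.Agent.Lefpen.H705.ChartPoly
open Groth.Agent.Lefpen.H705.HypSmooth Groth.Agent.Sga5

attribute [local instance] algK

variable {k : Type u} [Field k] {X : Scheme.{u}} [IsIntegral X] [X.Over (Spec (CommRingCat.of k))]

theorem gg_const (φ : X ⟶ CohB1.ProjSpace 2 k) (hφ : φ ≫ CohB1.ProjSpace.toSpec 2 k = X ↘ Spec (CommRingCat.of k))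
    (j : Fin 3) [Nonempty (φ ⁻¹ᵁ chart 2 k j)] (c : k) :
    gg (φ ⁻¹ᵁ chart 2 k j) (φ.app (chart 2 k j) (polyToChart j (MvPolynomial.C c))) =
      algebraMap k X.functionField c := by
  rw [← germ_str (φ ⁻¹ᵁ chart 2 k j) c]
  refine congrArg (gg (φ ⁻¹ᵁ chart 2 k j)) ?_
  rw [Dix.EllAff.str_eq_coeffHom, coeffHom, Groth.Agent.Lefpen.H705.PointCoord.polyToChart_C]
  have h1 := Scheme.Hom.appLE_comp_appLE φ (CohB1.ProjSpace.toSpec 2 k)
    ⊤ (chart 2 k j) (φ ⁻¹ᵁ chart 2 k j) le_top le_rfl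
  have h2 := congr($(h1).hom ((Scheme.ΓSpecIso (CommRingCat.of k)).inv.hom c))
  simp only [hφ] at h2
  refine Eq.trans ?_ h2
  rw [← Scheme.Hom.app_eq_appLE]
  rfl

omit [X.Over (Spec (CommRingCat.of k))] in
open Groth.Agent.CurvesC.Gen Groth.Agent.CurvesC.ProjSpaceBasic Groth.Agent.CurvesC.ProjMap
  Groth.Agent.CurvesC.PullIso in
/-- The value of the function `T_j / T_i` in the function field. -/
theorem gg_ratio (φ : X ⟶ CohB1.ProjSpace 2 k) {M : X.Modules} (σ : Fin 3 → Γ(M, ⊤)) {U : X.Opens} [Nonempty U]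
    {e : Γ(M, U)} (he : Groth.Agent.Fdesc.LocGen.IsGen e) (i j : Fin 3) [Nonempty (φ ⁻¹ᵁ Dp 2 k i)]
    (hφr : φ.app (Dp 2 k i) (ratio 2 k i j) • Groth.Agent.CurvesC.Gen.sec (ofSec (σ i)) (φ ⁻¹ᵁ Dp 2 k i) =
        Groth.Agent.CurvesC.Gen.sec (ofSec (σ j)) (φ ⁻¹ᵁ Dp 2 k i)) :
    gg (φ ⁻¹ᵁ Dp 2 k i) (φ.app (Dp 2 k i) (ratio 2 k i j)) * gval he (σ i) = gval he (σ j) := by
  rw [sec_ofSec, sec_ofSec] at hφr
  have h1 := congrArg (gval he) hφr
  rw [gval_smul] at h1
  have h2 : ∀ l, gval he (M.presheaf.map (homOfLE (le_top : φ ⁻¹ᵁ Dp 2 k i ≤ ⊤)).op (σ l)) = gval he (σ l) :=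
    fun l => gval_res he le_top (σ l)
  rw [h2, h2] at h1
  exact h1

open Groth.Agent.CurvesC.Gen Groth.Agent.CurvesC.ProjSpaceBasic Groth.Agent.CurvesC.ProjMap
  Groth.Agent.CurvesC.PullIso in
/-- The generic point is in the locus where a nonzero section generates. -/
theorem eta_mem_genLocus {M : X.Modules} (hM : PicF.IsInvertible M) (s : Γ(M, ⊤)) (hs : s ≠ 0) :
    genericPoint X ∈ CohB1.genLocus M (ofSec s) := by
  obtain ⟨V, e, hV, -, -, he⟩ := Ega2.TensGen.exists_affine_gen hM (genericPoint X) (V := ⊤) trivial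
  have hne : Nonempty V := ⟨⟨_, hV⟩⟩
  obtain ⟨a, ha⟩ := he.exists_eq (res M le_top s)
  have h1 := genLocus_inf_eq_basicOpen (L := M) (W := V) (e := e) he (ofSec s) (a := a)
    (by rw [sec_ofSec]; exact ha.symm)
  have h2 : genericPoint X ∈ X.basicOpen a := by
    have h0 : a ≠ 0 := by
      rintro rfl
      apply hs
      apply eq_zero_of_gval he hM
      rw [← gval_res he (le_top : V ≤ ⊤), ha, zero_smul, gval_zero]
    have h3 : (X.basicOpen a : Set X).Nonempty := by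
      rw [Set.nonempty_iff_ne_empty]
      intro h4
      apply h0
      apply (basicOpen_eq_bot_iff a).1
      apply TopologicalSpace.Opens.ext
      exact h4
    exact ((genericPoint_spec X).mem_open_set_iff (X.basicOpen a).isOpen).2
      (by obtain ⟨x, hx⟩ := h3; exact ⟨x, trivial, hx⟩)
  rw [← h1] at h2
  exact h2.1

open Groth.Agent.CurvesC.Gen Groth.Agent.CurvesC.ProjSpaceBasic Groth.Agent.CurvesC.ProjMap
  Groth.Agent.CurvesC.PullIso in
/-- The morphism on the chart `D_+(T_2)`, in the function field. -/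
theorem theta_eq (φ : X ⟶ CohB1.ProjSpace 2 k)
    (hφ : φ ≫ CohB1.ProjSpace.toSpec 2 k = X ↘ Spec (CommRingCat.of k)) {M : X.Modules}
    (σ : Fin 3 → Γ(M, ⊤)) {U : X.Opens} [Nonempty U]
    {e : Γ(M, U)} (he : Groth.Agent.Fdesc.LocGen.IsGen e) [Nonempty (φ ⁻¹ᵁ chart 2 k 2)]
    (hφr : ∀ i j, φ.app (Dp 2 k i) (ratio 2 k i j) • Groth.Agent.CurvesC.Gen.sec (ofSec (σ i)) (φ ⁻¹ᵁ Dp 2 k i) =
        Groth.Agent.CurvesC.Gen.sec (ofSec (σ j)) (φ ⁻¹ᵁ Dp 2 k i))
    (x y : X.functionField) (h0 : gval he (σ 0) = x * gval he (σ 2)) (h1 : gval he (σ 1) = y * gval he (σ 2))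
    (h2 : gval he (σ 2) ≠ 0) (p : MvPolynomial (Fin 2) k) :
    gg (φ ⁻¹ᵁ chart 2 k 2) (φ.app (chart 2 k 2) (polyToChart 2 p)) = MvPolynomial.aeval ![x, y] p := by
  have key : ((gg (φ ⁻¹ᵁ chart 2 k 2)).comp ((φ.app (chart 2 k 2)).hom.comp (polyToChart 2))) =
      (MvPolynomial.aeval ![x, y] : MvPolynomial (Fin 2) k →ₐ[k] X.functionField).toRingHom := by
    apply MvPolynomial.ringHom_ext
    · intro c
      refine (gg_const φ hφ 2 c).trans ?_
      exact (MvPolynomial.aeval_C _ _).symm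
    · intro l
      have hne : Nonempty (φ ⁻¹ᵁ Dp 2 k 2) := ‹_›
      have h3 := gg_ratio φ σ he 2 ((2 : Fin 3).succAbove l) (hφr _ _)
      have h4 : gg (φ ⁻¹ᵁ chart 2 k 2) (φ.app (chart 2 k 2) (polyToChart 2 (MvPolynomial.X l))) *
          gval he (σ 2) = gval he (σ ((2 : Fin 3).succAbove l)) := by
        rw [← h3, ← WeierIdeal.rat_eq_polyToChart]
        rfl
      refine (mul_right_cancel₀ h2 (h4.trans ?_) :
        gg (φ ⁻¹ᵁ chart 2 k 2) (φ.app (chart 2 k 2) (polyToChart 2 (MvPolynomial.X l))) = ![x, y] l).trans ?_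
      · fin_cases l
        · exact h0
        · exact h1
      · exact (MvPolynomial.aeval_X _ _).symm
  exact congrArg (fun r : MvPolynomial (Fin 2) k →+* X.functionField => r p) key

theorem linearIndependent {M : X.Modules} (σ : Fin 3 → Γ(M, ⊤)) {U : X.Opens} [Nonempty U]
    {e : Γ(M, U)} (he : Groth.Agent.Fdesc.LocGen.IsGen e)
    (x y : X.functionField) (hfree : WeierAlg.Free k x y)
    (h0 : gval he (σ 0) = x * gval he (σ 2)) (h1 : gval he (σ 1) = y * gval he (σ 2))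
    (h2 : gval he (σ 2) ≠ 0) :
    letI := CurvesB.HZero.moduleΓ (X := X) k M
    LinearIndependent k σ := by
  letI := CurvesB.HZero.moduleΓ (X := X) k M
  rw [Fintype.linearIndependent_iff]
  intro c hc
  have hsm : ∀ (t : k) (s : Γ(M, ⊤)), gval he (t • s) = algebraMap k X.functionField t * gval he s := by
    intro t s
    change gval he (CurvesB.HZero.gl k X t • s) = _
    rw [gval_smul, PoleSec.gg_gl]
  have h3 := congrArg (gval he) hc
  rw [Fin.sum_univ_three, gval_add, gval_add, gval_zero, hsm, hsm, hsm, h0, h1] at h3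
  have h4 : (algebraMap k X.functionField (c 0) * x + algebraMap k X.functionField (c 2)) +
      algebraMap k X.functionField (c 1) * y = 0 := by
    refine (mul_eq_zero.1 (?_ : _ * gval he (σ 2) = 0)).resolve_right h2
    linear_combination h3
  obtain ⟨h5, h6⟩ := hfree (Polynomial.C (c 0) * Polynomial.X + Polynomial.C (c 2)) (Polynomial.C (c 1))
    (by simpa using h4)
  have h7 : c 1 = 0 := Polynomial.C_eq_zero.1 h6
  have h8 : c 2 = 0 := by
    have := congrArg (Polynomial.coeff · 0) h5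
    simpa using this
  have h9 : c 0 = 0 := by
    have := congrArg (Polynomial.coeff · 1) h5
    simpa using this
  intro i
  fin_cases i
  · exact h9
  · exact h7
  · exact h8

theorem span_eq_top {M : X.Modules} (hfin : Module.finrank k (Coh.HH X M 0) = 3) (σ : Fin 3 → Γ(M, ⊤))
    {U : X.Opens} [Nonempty U]
    {e : Γ(M, U)} (he : Groth.Agent.Fdesc.LocGen.IsGen e)
    (x y : X.functionField) (hfree : WeierAlg.Free k x y)
    (h0 : gval he (σ 0) = x * gval he (σ 2)) (h1 : gval he (σ 1) = y * gval he (σ 2))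
    (h2 : gval he (σ 2) ≠ 0) :
    letI := VarietyB.FlatH0.modSpec (X ↘ (Spec (CommRingCat.of k))) M
    Submodule.span (CommRingCat.of k) (Set.range σ) = ⊤ := by
  let m := VarietyB.FlatH0.modSpec (X ↘ (Spec (CommRingCat.of k))) M
  let m2 := CurvesB.HZero.moduleΓ (X := X) k M
  have h3 := linearIndependent σ he x y hfree h0 h1 h2
  have h4 : Module.finrank k Γ(M, ⊤) = 3 := by
    rw [← hfin]
    exact (CurvesB.HZero.equivLin k M).symm.finrank_eq
  exact h3.span_eq_top_of_card_eq_finrank (by rw [h4]; rfl)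

omit [IsIntegral X] in
theorem resMap_surjective (o : Spec (CommRingCat.of k) ⟶ X) (ho : o ≫ (X ↘ Spec (CommRingCat.of k)) = 𝟙 _)
    (p : Spec (CommRingCat.of k)) : Function.Surjective (Curv2.resMap k X (o p)) := by
  intro r
  obtain ⟨u, rfl⟩ := IsLocalRing.residue_surjective r
  obtain ⟨c, hc⟩ := Dix.EllAff.exists_sub_mem o ho p u
  refine ⟨c, ?_⟩
  rw [← IsLocalRing.residue_eq_zero_iff, map_sub, sub_eq_zero] at hc
  refine Eq.trans ?_ hc.symm
  refine congrArg (fun a => IsLocalRing.residue (X.presheaf.stalk (o p)) (X.presheaf.germ ⊤ (o p) (Opens.mem_top _) a)) ?_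
  exact (ores_refl (CurvesB.HZero.gl k X c)).symm

omit [X.Over (Spec (CommRingCat.of k))] in
/-- A section whose zero ideal is effective Cartier is nonzero. -/
theorem ne_zero_of_isZeroIdeal {M : X.Modules} (hM : PicF.IsInvertible M) (s : Γ(M, ⊤)) {I : X.IdealSheafData}
    (hs : IsZeroIdeal M s I) (hI : BlowUp.IsEffCartierIdeal I) : s ≠ 0 := by
  rintro rfl
  obtain ⟨U, hU, f, hf, hfI⟩ := hI (genericPoint X)
  obtain ⟨V, e, hV, hVU, hVa, he⟩ := Ega2.TensGen.exists_affine_gen hM (genericPoint X) (V := U.1) hU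
  have hneU : Nonempty U.1 := ⟨⟨_, hU⟩⟩
  have hneV : Nonempty V := ⟨⟨_, hV⟩⟩
  have h1 := hs ⟨V, hVa⟩ e he 0 (by rw [map_zero, zero_smul])
  have h2 := I.map_ideal (U := ⟨V, hVa⟩) (V := U) hVU
  rw [h1, hfI, Ideal.map_span, Set.image_singleton, Ideal.span_singleton_eq_span_singleton] at h2
  have h3 : ores hVU f = 0 := h2.symm.eq_zero_iff.1 rfl
  have h4 : f = 0 := by
    rw [← gg_eq_zero_iff, ← gg_ores hVU, h3, map_zero]
  rw [h4] at hf
  exact zero_notMem_nonZeroDivisors hf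

/-- The cohomology of `O(3 o)` in genus one. -/
theorem finrank_eq_three [IsProper (X ↘ (Spec (CommRingCat.of k)))] (hdim : topologicalKrullDim X = 1)
    (h0 : Module.finrank k (Coh.HH X (Coh.structureModule X) 0) = 1) (h1 : Curv2.genus k X = 1)
    {L : X.Modules} (hL : PicF.IsInvertible L) (hd : Curv2.deg k X L 1 = 3) :
    Module.finrank k (Coh.HH X L 0) = 3 := by
  have hnoeth : IsNoetherian X := Groth.Agent.CurvesB.CurveRR.isNoetherian_of_proper k X
  have hfin1 := Groth.Agent.VarietyA.CurveFin.finite_HH_structure k X 1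
  have hemb := Groth.Agent.CurvesB.InvEmb.locEmb_of_isInvertible hL
  rw [Groth.Agent.CurvesB.CurveRR.deg_eq k X hdim.le, h0, h1] at hd
  have hsub : Subsingleton (Coh.HH X L 1) := by
    by_contra hns
    have hnt : Nontrivial (Coh.HH X L 1) := not_subsingleton_iff_nontrivial.mp hns
    have hle := Groth.Agent.CurvesB.CurveRR.finrank_H0_le_genus k hdim.le hemb hnt
    rw [h1] at hle
    have := Groth.Agent.VarietyA.CurveFin.finite_HH k X hL 1
    have hpos : 0 < Module.finrank k (Coh.HH X L 1) := Module.finrank_pos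
    omega
  rw [Module.finrank_zero_of_subsingleton (M := Coh.HH X L 1)] at hd
  omega

/-- **A curve of genus one with a rational point as a plane curve**, for given functions `x`, `y` with poles of
order at most three at the point and a given equation `W`. -/
theorem exists_iso [IsProper (X ↘ (Spec (CommRingCat.of k)))] [Smooth (X ↘ (Spec (CommRingCat.of k)))]
    (hdim : topologicalKrullDim X = 1) (hg : Curv2.genus k X = 1)
    (o : Spec (CommRingCat.of k) ⟶ X) (ho : o ≫ (X ↘ (Spec (CommRingCat.of k))) = 𝟙 _)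
    (x₀ : X) (hx₀ : ∀ p, o p = x₀)
    (D : Dix.EllPole.PoleData k X.functionField) {U : X.Opens} [Nonempty U]
    (hU : ∀ y : X, y ∈ U ↔ y ≠ x₀) (hP : D.P = pole k U) (hO : D.O = regAt k x₀)
    (t : X.presheaf.stalk x₀) (htm : t ∈ IsLocalRing.maximalIdeal (X.presheaf.stalk x₀))
    (ht : D.t = algebraMap _ X.functionField t)
    (x y : X.functionField) (hx : x ∈ D.P) (hx' : D.t ^ 3 * x ∈ D.O) (hy : y ∈ D.P) (hy' : D.t ^ 3 * y ∈ D.O)
    (hfree : WeierAlg.Free k x y) {d : ℕ} (W : Form 2 k d) (hW : MvPolynomial.eval ![1, 1, 0] W.1 ≠ 0)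
    (hker : ∀ p : MvPolynomial (Fin 2) k, MvPolynomial.aeval ![x, y] p = 0 ↔ ProjChart.dehom 2 k 2 W.1 ∣ p) :
    ∃ e : X ≅ (hypIdeal W).subscheme,
      e.hom ≫ (hypIdeal W).subschemeι ≫ CohB1.ProjSpace.toSpec 2 k = X ↘ (Spec (CommRingCat.of k)) := by
  obtain ⟨p₀⟩ : Nonempty (Spec (CommRingCat.of k)) := inferInstanceAs (Nonempty (PrimeSpectrum k))
  have hrat : Function.Surjective (Curv2.resMap k X x₀) := by
    rw [← hx₀ p₀]
    exact resMap_surjective o ho p₀
  have hcl : IsClosed ({x₀} : Set X) := by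
    rw [← hx₀ p₀]
    exact Dix.EllAff.isClosed_point o ho p₀
  have hreg : IsRegularLocalRing (X.presheaf.stalk x₀) := GeomInt.isRegular_of_smooth (X ↘ (Spec (CommRingCat.of k))) x₀
  have h0 := RatPt.finrank_h0_of_rational k X x₀ hrat
  have hgi := GeomInt.geometricallyIntegral_of_h0 k X h0
  have hEff := PtPow.isEff_pointIdeal k hdim hcl hreg
  have hEff3 : BlowUp.IsEffCartierIdeal ((Scheme.IdealSheafData.vanishingIdeal ⟨{x₀}, hcl⟩) ^ 3) :=
    Groth.Agent.Divis.EffCartier.isEff_pow hEff 3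
  obtain ⟨M, hM, s, hs⟩ := Picfga.ZeroDiv.exists_section_of_isEffCartier hEff3
  have hinv : ClSub.IsInverseOf M (ClSub.idealMod ((Scheme.IdealSheafData.vanishingIdeal ⟨{x₀}, hcl⟩) ^ 3)) :=
    Fga.ZeroClass.nonempty_iso hM s hs hEff3
  have hdeg := PtPow.deg_of_isInverseOf_pow k hdim hcl hreg hrat (n := 3) (by norm_num) hinv
  have hfin := finrank_eq_three hdim h0 hg hM (by exact_mod_cast hdeg)
  obtain ⟨σx, hσx⟩ := PoleSec.exists_section D x₀ hU hP hO t htm ht hcl 3 hM s hs x hx hx'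
  obtain ⟨σy, hσy⟩ := PoleSec.exists_section D x₀ hU hP hO t htm ht hcl 3 hM s hs y hy hy'
  obtain ⟨V, e, hV, -, -, he⟩ := Ega2.TensGen.exists_affine_gen hM (genericPoint X) (V := ⊤) trivial
  have hneV : Nonempty V := ⟨⟨_, hV⟩⟩
  have hs0 : s ≠ 0 := by
    rintro rfl
    exact ne_zero_of_isZeroIdeal hM _ hs hEff3 rfl
  let σ : Fin 3 → Γ(M, ⊤) := ![σx, σy, s]
  have e0 : gval he (σ 0) = x * gval he (σ 2) := hσx V e he
  have e1 : gval he (σ 1) = y * gval he (σ 2) := hσy V e he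
  have e2 : gval he (σ 2) ≠ 0 := fun h => hs0 (eq_zero_of_gval he hM s h)
  have hspan := span_eq_top hfin σ he x y hfree e0 e1 e2
  obtain ⟨φ, hφc, hφf, hφD, hφr, -⟩ := VASpan.exists_closedImmersion k X hdim h0 M hM
    (by rw [hg, hdeg]; norm_num) σ hspan
  have hη : genericPoint X ∈ φ ⁻¹ᵁ chart 2 k 2 := by
    have h := hφD 2
    change genericPoint X ∈ φ ⁻¹ᵁ CurvesC.ProjSpaceBasic.Dp 2 k 2
    rw [h]
    exact eta_mem_genLocus hM s hs0
  have hne2 : Nonempty (φ ⁻¹ᵁ chart 2 k 2) := ⟨⟨_, hη⟩⟩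
  have hθ := theta_eq φ hφf σ he hφr x y e0 e1 e2
  have hkereq := WeierIdeal.ker_eq φ W hW hη fun p => by
    rw [← hker p, ← hθ p]
    exact (gg_eq_zero_iff (U := φ ⁻¹ᵁ chart 2 k 2)).symm
  rw [← hkereq]
  refine ⟨asIso φ.toImage, ?_⟩
  rw [asIso_hom, ← Category.assoc]
  rw [show φ.toImage ≫ φ.ker.subschemeι = φ from φ.toImage_imageι]
  exact hφf

end K318.WeierEmb
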