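import Groth.Agent.Curves.K318.WeierEmb
import Groth.Agent.Dix.EllPoleAlg

/-!
# Plane cubics as forms
-/

set_option autoImplicit false
universe u

open CategoryTheory CategoryTheory.Limits AlgebraicGeometry Opposite TopologicalSpace

open Groth.Agent LefPen

namespace K318.WeierForm

open Groth.Agent.Sga5

variable {k : Type u} [Field k]

/-- The homogeneous Weierstrass polynomial. -/
noncomputable def poly (a₁ a₂ a₃ a₄ a₆ : k) : MvPolynomial (Fin (2 + 1)) k :=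
  MvPolynomial.X 1 ^ 2 * MvPolynomial.X 2 + MvPolynomial.C a₁ * MvPolynomial.X 0 * MvPolynomial.X 1 * MvPolynomial.X 2 + MvPolynomial.C a₃ * MvPolynomial.X 1 * MvPolynomial.X 2 ^ 2 - MvPolynomial.X 0 ^ 3 - MvPolynomial.C a₂ * MvPolynomial.X 0 ^ 2 * MvPolynomial.X 2 - MvPolynomial.C a₄ * MvPolynomial.X 0 * MvPolynomial.X 2 ^ 2 - MvPolynomial.C a₆ * MvPolynomial.X 2 ^ 3

theorem isHomogeneous_poly (a₁ a₂ a₃ a₄ a₆ : k) : (poly a₁ a₂ a₃ a₄ a₆).IsHomogeneous 3 := by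
  have hX : ∀ (i : Fin (2 + 1)) (n : ℕ), ((MvPolynomial.X i : MvPolynomial (Fin (2 + 1)) k) ^ n).IsHomogeneous n :=
    fun i n => MvPolynomial.isHomogeneous_X_pow i n
  have hX1 : ∀ (i : Fin (2 + 1)), (MvPolynomial.X i : MvPolynomial (Fin (2 + 1)) k).IsHomogeneous 1 :=
    fun i => MvPolynomial.isHomogeneous_X k i
  have hC : ∀ c : k, (MvPolynomial.C c : MvPolynomial (Fin (2 + 1)) k).IsHomogeneous 0 :=
    fun c => MvPolynomial.isHomogeneous_C _ c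
  refine MvPolynomial.IsHomogeneous.sub (MvPolynomial.IsHomogeneous.sub (MvPolynomial.IsHomogeneous.sub
    (MvPolynomial.IsHomogeneous.sub (MvPolynomial.IsHomogeneous.add (MvPolynomial.IsHomogeneous.add ?_ ?_) ?_) ?_) ?_) ?_) ?_
  · exact (hX 1 2).mul (hX1 2)
  · exact (((hC a₁).mul (hX1 0)).mul (hX1 1)).mul (hX1 2)
  · exact ((hC a₃).mul (hX1 1)).mul (hX 2 2)
  · exact hX 0 3
  · exact ((hC a₂).mul (hX 0 2)).mul (hX1 2)
  · exact ((hC a₄).mul (hX1 0)).mul (hX 2 2)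
  · exact (hC a₆).mul (hX 2 3)

theorem dehom_poly (a₁ a₂ a₃ a₄ a₆ : k) :
    ProjChart.dehom 2 k 2 (poly a₁ a₂ a₃ a₄ a₆) = WeierAlg.weier a₁ a₂ a₃ a₄ a₆ := by
  have h0 : ProjChart.dehom 2 k 2 (MvPolynomial.X 0) = MvPolynomial.X 0 := ProjChart.dehom_X 2 k 2 0
  have h1 : ProjChart.dehom 2 k 2 (MvPolynomial.X 1) = MvPolynomial.X 1 := ProjChart.dehom_X 2 k 2 1
  have h2 : ProjChart.dehom 2 k 2 (MvPolynomial.X 2) = 1 := ProjChart.dehom_X_self 2 k 2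
  simp only [poly, map_add, map_sub, map_mul, map_pow, ProjChart.dehom_C, h0, h1, h2, WeierAlg.weier]
  ring

theorem eval_poly (a₁ a₂ a₃ a₄ a₆ : k) : MvPolynomial.eval ![1, 1, 0] (poly a₁ a₂ a₃ a₄ a₆) = -1 := by
  simp [poly]

end K318.WeierForm
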